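import Cfsg.Agent.TO.LU.Core
import Cfsg.Agent.TO.Cl
import Cfsg.Agent.H199.PslAut
import Cfsg.Agent.H593.RobinsonRank
import Cfsg.Agent.ClassicalGeometry.PSUAutMain

/-!
# S4817: the boxes L1, U1 and the rows psl, psu (helper1)
-/

set_option autoImplicit false

namespace Cfsg.Agent.TO

open Cfsg Matrix
open Cfsg.Agent.BHZ.Nil
open Cfsg.Agent.ClassicalGeometry

namespace LU

variable {F : Type} [Field F] {n : ℕ}

theorem ed_conj (A : (Mt n F)ˣ) (x : Mt n F) (l : F) : ed (A.1 * x * (A⁻¹ : (Mt n F)ˣ).1) l = ed x l := by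
  rw [ed, ed, show A.1 * x * (A⁻¹ : (Mt n F)ˣ).1 - l • 1 = A.1 * (x - l • 1) * (A⁻¹ : (Mt n F)ˣ).1 by
    simp [mul_sub, sub_mul], rank_mul_eq_left_of_isUnit_det _ _ (isUnits_det_units _),
    rank_mul_eq_right_of_isUnit_det _ _ (isUnits_det_units _)]

theorem ed_map (σ : F ≃+* F) (x : Mt n F) (l : F) : ed (x.map σ) (σ l) = ed x l := by
  rw [ed, ed, ← H593.RobinsonRank.rank_map (σ : F →+* F) (x - l • 1)]
  congr 2
  ext i j
  by_cases h : i = j <;> simp [h]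

theorem ed_inv (x : (Mt n F)ˣ) (l : Fˣ) : ed (x⁻¹ : (Mt n F)ˣ).1ᵀ (l⁻¹ : Fˣ) = ed x.1 l := by
  rw [ed, ed, ← rank_transpose, transpose_sub, transpose_transpose, transpose_smul, transpose_one,
    ← rank_mul_eq_right_of_isUnit_det _ _ (isUnits_det_units x), ← rank_smul (neg_ne_zero.2 l.ne_zero)]
  congr 2
  rw [mul_sub, Units.mul_inv, Matrix.mul_smul, mul_one, neg_smul, smul_sub, smul_smul, Units.mul_inv, one_smul, neg_sub]

theorem exists_nine [Fintype F] (h : 9 ∣ Fintype.card F - 1) : ∃ η : Fˣ, η ^ 9 = 1 ∧ η ^ 3 ≠ 1 := by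
  classical
  obtain ⟨g, hg⟩ := IsCyclic.exists_ofOrder_eq_natCard (α := Fˣ)
  rw [Nat.card_units, Nat.card_eq_fintype_card] at hg
  have h2 := orderOf_pow_orderOf_div (orderOf_pos g).ne' (hg ▸ h)
  exact ⟨_, h2 ▸ pow_orderOf_eq_one _, pow_ne_one_of_lt_orderOf (by decide) (by omega)⟩

theorem heis3 {a b : (Mt n F)ˣ} {ω : Fˣ} (h1 : ω ≠ 1) (h3 : ω ^ 3 = 1) (ha : a ^ 3 = 1) (hb : b ^ 3 = 1)
    (h : a * b = sc n ω * b * a) : Heis3 a.1 b.1 (ω : F) :=
  have : Fact (Nat.Prime 3) := ⟨Nat.prime_three⟩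
  ⟨IsPrimitiveRoot.coe_units_iff.2 (IsPrimitiveRoot.iff_orderOf.2 (orderOf_eq_prime h3 h1)), val_pow_one ha,
    val_pow_one hb, by rw [← Units.val_mul, h, mul_assoc, val_sc_mul, Units.val_mul]⟩

variable [Fintype F] {p : ℕ} [hp : Fact p.Prime]

omit [Fintype F] in
theorem Sys.exists_ctx {G X : Type} [Group G] [Group X] [Finite G] {ι : G →* (Mt n F)ˣ} {π : G →* X}
    {Γ : Subgroup (Mt n F)ˣ} {μ : Subgroup Fˣ} (S : Sys p ι π Γ μ) {A : Subgroup (MulAut X)} {Q : Subgroup X}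
    (h : Pure p X A Q) : ∃ P, P.map π = Q ∧ Ctx p ι π Γ μ A P := by
  obtain ⟨P, h1, -, rfl⟩ := exists_lift_pgroup S.surj IsPGroup.of_bot h.pg (by simp)
  exact ⟨P, rfl, S, h1, h⟩

omit hp in
open AutPSL.Root AutPSL.Auto H199.PslAut in
theorem sysL (hF : (p : F) ≠ 0) (hn : 2 ≤ n) :
    Sys p (SpecialLinearGroup.toGL : SpecialLinearGroup (Fin n) F →* (Mt n F)ˣ) pr ⊤ ⊤ where
  n0 := by omega
  hF := hF
  inj := SpecialLinearGroup.toGL_injective
  surj := pr_surjective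
  mem _ := trivial
  ex x _ h := ⟨⟨x, h⟩, Units.ext rfl⟩
  ker g := ⟨fun h => by
    obtain ⟨c, hc⟩ := exists_smul_of_pr_eq ((map_one pr).trans h.symm)
    refine ⟨Units.mk0 c fun e => ?_, trivial, Units.ext (by rw [val_sc]; exact hc)⟩
    have : Nonempty (Fin n) := ⟨⟨0, by omega⟩⟩
    simpa [hc, e] using g.2, fun ⟨c, _, h⟩ => (pr_eq_one_iff g).2 (Subgroup.mem_center_iff.2 fun y =>
      SpecialLinearGroup.toGL_injective (by rw [map_mul, map_mul, h, (commute_sc c _).eq]))⟩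
  scal _ _ := trivial
  detm x _ := ⟨GeneralLinearGroup.det x, trivial, rfl⟩
  cut := cutClosed_top hF
  aut α := by
    have h1 : ∀ g : GL (Fin n) F, Lifts (SpecialLinearGroup.toGL : _ →* (Mt n F)ˣ) (cj g) := fun g =>
      ⟨Equiv.refl _, rfl, fun x l => ed_conj g _ _⟩
    have h2 : ∀ σ : F ≃+* F, Lifts (SpecialLinearGroup.toGL : _ →* (Mt n F)ˣ) (fld σ) := fun σ =>
      ⟨(Units.mapEquiv σ.toMulEquiv).toEquiv, map_one (Units.mapEquiv σ.toMulEquiv), fun x l => ed_map σ _ _⟩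
    have h3 : Lifts (SpecialLinearGroup.toGL : _ →* (Mt n F)ˣ) itr :=
      ⟨Equiv.inv _, inv_one, fun x l => ed_inv (SpecialLinearGroup.toGL x) l⟩
    rcases exists_form hn α with ⟨g, σ, rfl⟩ | ⟨-, g, σ, rfl⟩
    · exact ⟨_, fun x => by simp only [MulAut.mul_apply, phi_pr, Psi_pr], (h1 g).mul (h2 σ)⟩
    · exact ⟨_, fun x => by simp only [MulAut.mul_apply, iot_pr, phi_pr, Psi_pr], ((h1 g).mul (h2 σ)).mul h3⟩
  dich := .inr fun _ _ _ => trivial

open PSUAutBasic PSUAutCount in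
theorem sysU {q : ℕ} (hF : (p : F) ≠ 0) (hp2 : p ≠ 2) (hq : Fintype.card F = q ^ 2) (hn : 3 ≤ n)
    (h32 : ¬ (n = 3 ∧ q = 2)) :
    Sys p ((SpecialLinearGroup.toGL.comp (SU n F q).subtype : SU n F q →* (Mt n F)ˣ)) (pr n F q) (GU n F q)
      (rootsOfUnity (q + 1) F) where
  n0 := by omega
  hF := hF
  inj := SpecialLinearGroup.toGL_injective.comp (SU n F q).subtype_injective
  surj := pr_surjective
  mem g := g.2
  ex x hx h := ⟨⟨⟨x, h⟩, hx⟩, Units.ext rfl⟩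
  ker g := ⟨fun h => by
    obtain ⟨c, h0, h1, h2⟩ := exists_scalar_of_mem_center hq hn (pr_eq_one_iff.1 h)
    exact ⟨Units.mk0 c h0, Units.ext ((Units.val_pow_eq_pow_val _ _).trans ((pow_succ' c q).trans h1)),
      Units.ext (Matrix.ext_of_mulVec_single fun i => (h2 _).trans (by rw [val_sc, smul_mulVec, one_mulVec]; rfl))⟩,
    fun ⟨c, _, h⟩ => pr_eq_one_iff.2 (Subgroup.mem_center_iff.2 fun y =>
      (SpecialLinearGroup.toGL_injective.comp (SU n F q).subtype_injective)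
        (show (SpecialLinearGroup.toGL.comp (SU n F q).subtype) _ = (SpecialLinearGroup.toGL.comp (SU n F q).subtype) _ by
          rw [map_mul, map_mul, h, (commute_sc c _).eq]))⟩
  scal c hc u v := by
    have h : (c : F) * c ^ q = 1 := by simpa [pow_succ'] using congrArg Units.val (show c ^ (q + 1) = 1 from hc)
    simp only [Units.coeHom_apply, val_sc, smul_mulVec, one_mulVec, hermForm, Pi.smul_apply, smul_eq_mul, mul_pow]
    exact Finset.sum_congr rfl fun i _ => by linear_combination (u i * v i ^ q) * h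
  detm x hx := ⟨GeneralLinearGroup.det x,
    Units.ext ((Units.val_pow_eq_pow_val _ _).trans (GUBasic.det_pow hq hx)), rfl⟩
  cut := cutClosed_preserving hF (biAdd_herm n q (Nat.card_eq_fintype_card.trans hq))
  aut α := by
    obtain ⟨A, ρ, rfl⟩ := PSUAutMain.exists_toAut hq hn h32 α
    exact ⟨semiConj A ρ, fun g => (toAut_pr A ρ g).symm, (Units.mapEquiv ρ.toMulEquiv).toEquiv,
      map_one (Units.mapEquiv ρ.toMulEquiv), fun x l => (ed_conj A.1 _ _).trans (ed_map ρ _ _)⟩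
  dich := by
    classical
    refine or_iff_not_imp_left.2 fun h c k hc => ?_
    push Not at h
    obtain ⟨ω, h1, h2, h3⟩ := h
    have h4 : p ∣ q + 1 := orderOf_eq_prime h2 h3 ▸ orderOf_dvd_of_pow_eq_one h1
    have h5 : orderOf c ∣ (q + 1) * (q - 1) := by
      rw [← Nat.sq_sub_sq, one_pow, ← hq, ← Fintype.card_units]
      exact orderOf_dvd_card
    refine orderOf_dvd_iff_pow_eq_one.1 (Nat.Coprime.dvd_of_dvd_mul_right ?_ h5)
    refine Nat.Coprime.coprime_dvd_left (orderOf_dvd_of_pow_eq_one hc) (Nat.Coprime.pow_left _ ?_)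
    refine (Nat.Prime.coprime_iff_not_dvd hp.out).2 fun h6 => hp2 ((Nat.prime_dvd_prime_iff_eq hp.out Nat.prime_two).1 ?_)
    have h7 : q ≠ 0 := by rintro rfl; exact Fintype.card_ne_zero hq
    exact (show q + 1 - (q - 1) = 2 by omega) ▸ Nat.dvd_sub h4 h6

end LU

open LU

theorem boxL1 : BoxL1 := fun p _ F _ _ n hF hn _ A Q h => by
  obtain ⟨P, rfl, S⟩ := (sysL hF hn).exists_ctx h
  obtain ⟨h3, a, b, ω, -, h1, hω, ha, hb, e, h9, hη, hQ⟩ := S.core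
  refine ⟨h3, a, b, ω, heis3 h1 hω (by rw [← map_pow, ha, map_one]) (by rw [← map_pow, hb, map_one]) e, h9,
    fun h => ?_, hQ⟩
  obtain ⟨η, e1, e2⟩ := exists_nine h
  exact e2 (hη η trivial e1)

theorem boxU1 : BoxU1 := fun p _ F _ _ n q hF hq hn h32 A Q h => by
  obtain ⟨P, rfl, S⟩ := (sysU hF h.odd hq hn h32).exists_ctx h
  obtain ⟨rfl, a, b, ω, hm, h1, hω, ha, hb, e, h9, hη, hQ⟩ := S.core
  refine ⟨rfl, a, b, ω, heis3 h1 hω (by rw [← map_pow, ha, map_one]) (by rw [← map_pow, hb, map_one]) e, h9,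
    (orderOf_eq_prime hω h1).symm.dvd.trans (orderOf_dvd_of_pow_eq_one hm), fun h => ?_, hQ⟩
  obtain ⟨η, e1, e2⟩ := exists_nine (F := F) (h.trans ⟨q - 1, by rw [hq, ← Nat.sq_sub_sq, one_pow]⟩)
  obtain ⟨k, hk⟩ := h
  exact e2 (hη η (show η ^ (q + 1) = 1 by rw [hk, pow_mul, e1, one_pow]) e1)

theorem rowPsl (B : Blk) (h2 : BoxL2) : RowFor (fun p S _ => ∃ (F : Type) (_ : Field F) (_ : Fintype F) (n : ℕ),
    (p : F) ≠ 0 ∧ 2 ≤ n ∧ (n = 2 → 4 ≤ Fintype.card F) ∧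
      Nonempty (S ≃* Matrix.ProjectiveSpecialLinearGroup (Fin n) F)) := by
  rintro p _ - S _ _ _ - ⟨F, _, _, n, hF, hn, h4, ⟨e⟩⟩
  refine Row.of_equiv e fun G _ _ σ M b D H => ?_
  obtain ⟨rfl, h⟩ := boxL1 p F n hF hn h4 _ _ (B.pure G p M b D _ σ H)
  exact h2 F n hn G σ M b D H h

theorem rowPsu (B : Blk) (h2 : BoxU2) : RowFor (fun p S _ => ∃ (F : Type) (_ : Field F) (_ : Fintype F) (n q : ℕ),
    (p : F) ≠ 0 ∧ Fintype.card F = q ^ 2 ∧ 3 ≤ n ∧ ¬ (n = 3 ∧ q = 2) ∧ Nonempty (S ≃* PSU n F q)) := by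
  rintro p _ - S _ _ _ - ⟨F, _, _, n, q, hF, hq, hn, h32, ⟨e⟩⟩
  refine Row.of_equiv e fun G _ _ σ M b D H => ?_
  obtain ⟨rfl, h⟩ := boxU1 p F n q hF hq hn h32 _ _ (B.pure G p M b D _ σ H)
  exact h2 F n q hq hn h32 G σ M b D H h

end Cfsg.Agent.TO
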