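import Cfsg.Agent.TO.LU.Sys

/-!
# S4817, linear and unitary groups: the surviving configuration (helper1)
-/

set_option autoImplicit false

namespace Cfsg.Agent.TO.LU

open Matrix
open Cfsg.Agent.BHZ.Nil

variable {F : Type} [Field F] {n p : ℕ} {G X : Type} [Group G] [Group X]
  {ι : G →* (Mt n F)ˣ} {π : G →* X} {Γ : Subgroup (Mt n F)ˣ} {μ : Subgroup Fˣ}
  {A : Subgroup (MulAut X)} {P : Subgroup G} [hp : Fact p.Prime]

theorem mem_zp {y : X} (hy : y ^ p = 1) {j : ℕ} (h : y ^ j ≠ 1) : y ∈ Subgroup.zpowers (y ^ j) := by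
  rw [mem_zpowers_pow_iff, orderOf_eq_prime hy fun e => h (by rw [e, one_pow])]
  exact ((Nat.Prime.coprime_iff_not_dvd hp.out).2 fun ⟨m, e⟩ => h (by rw [e, pow_mul, hy, one_pow])).symm

namespace Ctx

variable [Finite G] (S : Ctx p ι π Γ μ A P)
include S

theorem exists_z : ∃ z ∈ P, π z ≠ 1 ∧ (∀ w ∈ P, π w * π z = π z * π w) ∧ ∃ y ∈ P, π y ∉ Subgroup.zpowers (π z) := by
  have := Finite.of_surjective π S.surj
  have : Nontrivial (P.map π) := not_subsingleton_iff_nontrivial.1 fun _ => S.pure.nc isCyclic_of_subsingleton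
  obtain ⟨⟨⟨_, z, hz, rfl⟩, h1⟩, h2⟩ := @exists_ne _ S.pure.pg.center_nontrivial 1
  refine ⟨z, hz, fun e => h2 (Subtype.ext (Subtype.ext e)),
    fun w hw => congrArg Subtype.val (Subgroup.mem_center_iff.1 h1 ⟨_, w, hw, rfl⟩), ?_⟩
  by_contra! h
  refine S.pure.nc ?_
  rw [le_antisymm (show P.map π ≤ _ by rintro _ ⟨w, hw, rfl⟩; exact h w hw) (Subgroup.zpowers_le_of_mem ⟨z, hz, rfl⟩)]
  infer_instance

theorem exists_rel {z w : G} (hw : w ∈ P) (h : π w * π z = π z * π w) :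
    ∃ c ∈ μ, c ^ p = 1 ∧ ι w * ι z = sc n c * ι z * ι w := by
  obtain ⟨c, hc, e⟩ := S.of_eq (x := w * z) (y := z * w) (by rw [map_mul, map_mul, h])
  rw [map_mul, map_mul, ← mul_assoc] at e
  obtain ⟨d, -, hd⟩ := S.pow_sc hw
  have h2 := pow_mul_of_rel (commute_sc c _) e p
  rw [hd, (commute_sc d _).eq, mul_left_inj, ← map_pow] at h2
  exact ⟨c, hc, sc_inj S.n0 ((mul_eq_right.1 h2.symm).trans (map_one _).symm), e⟩

omit [Finite G] hp in
theorem sc_pow_one {x : G} {c : Fˣ} {j k : ℕ} (e : ι x ^ j = sc n c) (hk : x ^ k = 1) : c ^ k = 1 :=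
  sc_inj S.n0 (by rw [map_pow, ← e, ← pow_mul, mul_comm, pow_mul, ← map_pow, hk, map_one, one_pow, map_one])

/-- no scalars of order `p` -/
theorem no_tors (hμ : ∀ c ∈ μ, c ^ p = 1 → c = 1) : False := by
  have hμ' : ∀ k, ∀ c ∈ μ, c ^ p ^ k = 1 → c = 1 := fun k => by
    induction k with
    | zero => simp
    | succ k ih => exact fun c hc e => hμ c hc (ih _ (pow_mem hc p) (by rw [← pow_mul, ← pow_succ', e]))
  have h1 : ∀ x ∈ P, ι x ^ p = 1 := fun x hx => by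
    obtain ⟨c, hc, e⟩ := S.pow_sc hx
    obtain ⟨k, hk⟩ := S.exists_pow hx
    rw [e, hμ' k c hc (S.sc_pow_one e hk), map_one]
  obtain ⟨z, hz, z1, zc, y, hy, y1⟩ := S.exists_z
  obtain ⟨c, hc, c1, e⟩ := S.exists_rel hy (zc y hy)
  rw [hμ c hc c1, map_one, one_mul] at e
  obtain ⟨u, hu, v, hv, up, vp, h2, h3, h4⟩ := exists_cut S.hF S.cut (S.mem z) (S.mem y) (h1 z hz) (h1 y hy) e.symm
    (fun e => z1 (by rw [S.inj (e.trans (map_one ι).symm), map_one]))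
    fun ⟨k, hk⟩ => y1 ⟨k, by beta_reduce; rw [← map_zpow, S.inj ((map_zpow ι z k).trans hk)]⟩
  have h5 : ∀ u ∈ Γ, u ^ p = 1 → ed u.1 1 < n → (∀ g ∈ Cs ι P, Commute g u) →
      ∃ x, ι x = u ∧ x ^ p = 1 ∧ Kel p π P x := fun u hu up h6 h7 => by
    obtain ⟨c, hc, e⟩ := S.detm u hu
    obtain ⟨x, rfl⟩ := S.ex u hu (by
      rw [e, hμ c hc (Units.ext (by rw [Units.val_pow_eq_pow_val, ← e, ← det_pow, val_pow_one up, det_one]; rfl))]; rfl)
    have xp : x ^ p = 1 := S.inj (by rw [map_pow, up, map_one])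
    refine ⟨x, rfl, xp, S.kel h7 (k := 1) (by rwa [pow_one]) fun e1 => ?_⟩
    obtain ⟨d, hd, e2⟩ := (S.ker x).1 e1
    rw [e2, hμ d hd (S.sc_pow_one ((pow_one _).trans e2) xp)] at h6
    simp [ed] at h6
  obtain ⟨x, rfl, xp, hx⟩ := h5 u hu up h3 fun g hg => (h4 g (cs_comm hz g hg) (cs_comm hy g hg)).1
  obtain ⟨w, rfl, wp, hw⟩ := h5 v hv vp (h2.trans h3) fun g hg => (h4 g (cs_comm hz g hg) (cs_comm hy g hg)).2
  obtain ⟨Ψ, β, d, hd, b1, e1, e2⟩ := S.rel0 hx hw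
  have h8 := e2 1
  rw [e1, (commute_sc d _).mul_pow, ← map_pow, ← map_pow, ← map_pow, xp, map_one, map_one, mul_one] at vp
  rw [b1, hμ d hd (sc_inj S.n0 (vp.trans (map_one _).symm)), mul_one] at h8
  exact h2.ne h8

variable {ω : Fˣ} (hω : ω ^ p = 1) (h1 : ω ≠ 1) (hm : ω ∈ μ)
include hω h1 hm

theorem eig {x : G} (hx : Kel p π P x) : ∃ l : Fˣ, ed (ι x).1 l ≠ 0 := by
  suffices H : ∃ a ∈ P, π a ≠ 1 ∧ ι a ^ p = 1 by
    obtain ⟨a, ha, a1, ap⟩ := H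
    have hf := fam_ev S.hF hω h1 S.cut S.scal hm (S.mem a) ap (cs_comm ha)
    obtain ⟨γ, hγ⟩ := S.rel (S.kel_of_mem ha a1) hx
    obtain ⟨k, hk⟩ : ∃ k : ZMod p, ev ω (ι a) k ≠ 0 := by
      by_contra! h
      exact S.n0 (hf.sum_rank.symm.trans (Finset.sum_eq_zero fun k _ => by rw [h k, rank_zero]))
    exact ⟨γ (zt ω k), by rw [hγ]; exact (hf.eig_iff (v := zt ω) (mul_ev hω ap) _).2 ⟨k, rfl, hk⟩⟩
  have H : ∀ a ∈ P, ∀ b : G, π a * π b = π b * π a → ∀ (c d : Fˣ) (j : ℕ), ι a ^ p = sc n c → ι b ^ p = sc n d →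
      (d : F) * c ^ j = 1 → ι (b * a ^ j) ^ p = 1 := fun a ha b h c d j hc hd e1 => by
    obtain ⟨t, -, t1, e⟩ := S.exists_rel (pow_mem ha j) (z := b) (by rw [map_pow]; exact (Commute.pow_left h j).eq)
    obtain ⟨s, hs⟩ := hp.out.dvd_choose_self two_ne_zero (lt_of_le_of_ne hp.out.two_le S.pure.odd.symm)
    rw [map_mul, mul_pow_of_rel (commute_sc t _) (commute_sc t _) e, hs, pow_mul, sc_pow t1, one_pow, one_mul, map_pow,
      ← pow_mul, mul_comm j, pow_mul, hc, hd, ← map_pow, ← map_mul, show d * c ^ j = 1 from Units.ext e1, map_one]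
  obtain ⟨z, hz, z1, zc, y, hy, y1⟩ := S.exists_z
  obtain ⟨c, -, hc⟩ := S.pow_sc hz
  obtain ⟨d, -, hd⟩ := S.pow_sc hy
  obtain ⟨k, hk⟩ := S.exists_pow hz
  obtain ⟨l, hl⟩ := S.exists_pow hy
  have e1 := congrArg Units.val (S.sc_pow_one hc (k := p ^ (k + l)) (by rw [pow_add, pow_mul, hk, one_pow]))
  have e2 := congrArg Units.val (S.sc_pow_one hd (k := p ^ (k + l)) (by rw [pow_add, pow_mul', hl, one_pow]))
  rcases exists_pow_rel (K := F) e1 e2 with ⟨j, e⟩ | ⟨j, e⟩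
  · refine ⟨_, mul_mem hy (pow_mem hz j), fun e3 => y1 ?_, H z hz y (zc y hy).symm c d j hc hd e⟩
    rw [map_mul, map_pow, mul_eq_one_iff_eq_inv] at e3
    exact e3 ▸ inv_mem (Subgroup.npow_mem_zpowers _ _)
  · refine ⟨_, mul_mem hz (pow_mem hy j), fun e3 => y1 ?_, H y hy z (zc y hy) d c j hd hc e⟩
    rw [map_mul, map_pow, mul_eq_one_iff_inv_eq] at e3
    have h2 := mem_zp (S.pow_p hy) (e3 ▸ inv_ne_one.2 z1)
    rwa [← e3, Subgroup.zpowers_inv] at h2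

variable (hall : ∀ (c : Fˣ) (k : ℕ), c ^ p ^ k = 1 → c ∈ μ)
include hall

theorem norm {x : G} (hx : x ∈ P) (x1 : π x ≠ 1) : ∃ l ∈ μ, (∃ k, l ^ p ^ k = 1) ∧ ∃ a ∈ Γ, a ^ p = 1 ∧
    ι x = sc n l * a ∧ ∀ y ∈ Cs ι P, Commute y a.1 := by
  obtain ⟨l, hl⟩ := S.eig hω h1 hm (S.kel_of_mem hx x1)
  obtain ⟨c, -, hc⟩ := S.pow_sc hx
  obtain ⟨k, hk⟩ := S.exists_pow hx
  have e1 : l ^ p = c := Units.ext (pow_eq_of_ed (by rw [← Units.val_pow_eq_pow_val, hc, val_sc]) hl)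
  have e2 : l ^ p ^ k = 1 := Units.ext (pow_eq_of_ed (c := 1) (by
    rw [← Units.val_pow_eq_pow_val, ← map_pow, hk, map_one, one_smul]; rfl) hl)
  refine ⟨l, hall l k e2, ⟨k, e2⟩, sc n l⁻¹ * ι x, mul_mem (S.scal _ (inv_mem (hall l k e2))) (S.mem x), ?_,
    by rw [map_inv, mul_inv_cancel_left], fun y hy => by rw [val_sc_mul]; exact (cs_comm hx y hy).smul_right _⟩
  rw [(commute_sc _ _).mul_pow, hc, ← map_pow, ← map_mul, inv_pow, e1, inv_mul_cancel, map_one]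

/-- commuting lifts -/
theorem caseA [Finite F] {a b : G} (ha : a ∈ P) (hb : b ∈ P) (hab : Commute a b) (a1 : π a ≠ 1)
    (b1 : π b ∉ Subgroup.zpowers (π a)) : False := by
  classical
  obtain ⟨l, hl, -, x, hx, xp, e1, cx⟩ := S.norm hω h1 hm hall ha a1
  obtain ⟨m, hm', -, y, hy, yp, e2, cy⟩ := S.norm hω h1 hm hall hb fun e => b1 (e ▸ one_mem _)
  have hxy : Commute x y := by
    have h2 := (hab.map ι).eq
    rwa [e1, e2, (commute_sc m x).symm.mul_mul_mul_comm, (commute_sc l y).symm.mul_mul_mul_comm, (commute_sc l _).eq,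
      mul_right_inj] at h2
  have hf := fam_ev2 S.hF hω h1 S.cut S.scal hm hx xp cx hy yp cy hxy
  have f1 : ∀ t : ZMod p × ZMod p, (ι a).1 * (ev ω x t.1 * ev ω y t.2) =
      ((l * zt ω t.1 : Fˣ) : F) • (ev ω x t.1 * ev ω y t.2) := fun t => by
    rw [e1, val_sc_mul, smul_mul_assoc, ← mul_assoc, mul_ev hω xp, smul_mul_assoc, smul_smul, Units.val_mul]
  have f2 : ∀ t : ZMod p × ZMod p, (ι b).1 * (ev ω x t.1 * ev ω y t.2) =
      ((m * zt ω t.2 : Fˣ) : F) • (ev ω x t.1 * ev ω y t.2) := fun t => by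
    rw [e2, val_sc_mul, smul_mul_assoc, ← mul_assoc, (commute_ev hxy.units_val.symm _).eq, mul_assoc, mul_ev hω yp,
      Matrix.mul_smul, smul_smul, Units.val_mul]
  obtain ⟨e, hf, f1, f2⟩ : ∃ e : ZMod p × ZMod p → Mt n F, Fam (Cs ι P) Γ μ e ∧
    (∀ t, (ι a).1 * e t = ((l * zt ω t.1 : Fˣ) : F) • e t) ∧ ∀ t, (ι b).1 * e t = ((m * zt ω t.2 : Fˣ) : F) • e t :=
    ⟨_, hf, f1, f2⟩
  have f3 : ∀ i j : ZMod p, ∀ t, (ι (a ^ i.val * b ^ j.val)).1 * e t =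
      ((l ^ i.val * m ^ j.val * zt ω (t.1 * i + t.2 * j) : Fˣ) : F) • e t := fun i j t => by
    rw [map_mul, map_pow, map_pow, Units.val_mul, Units.val_pow_eq_pow_val, Units.val_pow_eq_pow_val, mul_assoc,
      Fam.pow_mul f2, Matrix.mul_smul, Fam.pow_mul f1, smul_smul, ← Units.val_pow_eq_pow_val,
      ← Units.val_pow_eq_pow_val, ← Units.val_mul, mul_pow, mul_pow, zt_pow_val hω, zt_pow_val hω, zt_add hω]
    exact congrArg (fun c : Fˣ => (c : F) • e t) (by ac_rfl)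
  have f4 : ∀ i j : ZMod p, π (a ^ i.val * b ^ j.val) = 1 → i = 0 ∧ j = 0 := fun i j h => by
    rw [map_mul, map_pow, map_pow] at h
    have h2 : π b ^ j.val = 1 := by
      by_contra h2
      refine b1 ((Subgroup.zpowers_le_of_mem ?_) (mem_zp (S.pow_p hb) h2))
      rw [← mul_eq_one_iff_inv_eq.1 h]
      exact inv_mem (Subgroup.npow_mem_zpowers _ _)
    rw [h2, mul_one] at h
    have h3 : ∀ (u : X) (i : ZMod p), u ≠ 1 → u ^ p = 1 → u ^ i.val = 1 → i = 0 := fun u i u1 up h =>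
      (ZMod.val_eq_zero i).1 (Nat.eq_zero_of_dvd_of_lt ((orderOf_eq_prime up u1).symm.dvd.trans
        (orderOf_dvd_of_pow_eq_one h)) i.val_lt)
    exact ⟨h3 _ _ a1 (S.pow_p ha) h, h3 _ _ (fun e => b1 (by rw [e]; exact one_mem _)) (S.pow_p hb) h2⟩
  have f5 : ∀ i j s : ZMod p, ¬ (i = 0 ∧ j = 0) → ∃ t, e t ≠ 0 ∧ t.1 * i + t.2 * j ≠ s := fun i j s h => by
    by_contra! h2
    refine h (f4 i j ((S.ker _).2 ⟨l ^ i.val * m ^ j.val * zt ω s, mul_mem (mul_mem (pow_mem hl _) (pow_mem hm' _))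
      (pow_mem hm _), Units.ext (hf.ext fun t => ?_)⟩))
    rw [f3, val_sc, smul_mul_assoc, one_mul]
    by_cases h3 : e t = 0
    · rw [h3, smul_zero, smul_zero]
    · rw [h2 t h3]
  have f6 : ∀ i j : ZMod p, ¬ (i = 0 ∧ j = 0) → Kel p π P (a ^ i.val * b ^ j.val) := fun i j h =>
    S.kel_of_mem (mul_mem (pow_mem ha _) (pow_mem hb _)) fun e => h (f4 i j e)
  obtain ⟨r, r0, -⟩ := f5 1 0 0 (by simp)
  obtain ⟨s, s0, hs⟩ := f5 1 0 r.1 (by simp)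
  have hs' : s.1 - r.1 ≠ 0 := fun e => hs (by linear_combination e)
  obtain ⟨t, t0, ht⟩ := f5 (r.2 - s.2) (s.1 - r.1) (r.1 * (r.2 - s.2) + r.2 * (s.1 - r.1)) fun h => hs' h.2
  have h2 : (2 : ZMod p) ≠ 0 := fun e =>
    S.pure.odd ((Nat.prime_dvd_prime_iff_eq hp.out Nat.prime_two).1 ((ZMod.natCast_eq_zero_iff 2 p).1 e))
  by_cases h : ∃ u, e u ≠ 0 ∧ u ≠ r ∧ u ≠ s ∧ u ≠ t
  · obtain ⟨u, u0, ur, us, ut⟩ := h
    have rs : r ≠ s := fun e => hs' (by rw [e, sub_self])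
    have rt : r ≠ t := fun e => ht (by rw [e])
    have st : s ≠ t := fun e => ht (by rw [← e]; ring)
    refine S.no4 hω h1 hm hf (s := ![r, s, t, u]) (fun i j => ?_) fun j => by fin_cases j <;> assumption
    fin_cases i <;> fin_cases j <;> simp [rs, rt, st, ur, us, ut, rs.symm, rt.symm, st.symm, ur.symm, us.symm, ut.symm]
  have f7 : ∀ {c : Fˣ} {i j : ZMod p}, i ≠ j → c * zt ω i ≠ c * zt ω j := fun h e =>
    h (zt_inj hω h1 (mul_left_cancel e))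
  have f8 := fun w => (hf.eig_iff (f3 (r.2 - s.2) (s.1 - r.1)) w).1
  have f9 := fun w => (hf.eig_iff (f3 (t.2 + r.2 - 2 * s.2) (2 * s.1 - r.1 - t.1)) w).2
  refine S.no23 (f6 _ _ fun h => ht ?_) (f6 _ _ fun h => hs' h.2) (f7 fun e => ht ?_)
    (f7 fun e => ht (mul_left_cancel₀ h2 ?_)) (f7 fun e => ht ?_) (f9 _ ⟨r, rfl, r0⟩) (f9 _ ⟨s, rfl, s0⟩)
    (f9 _ ⟨t, rfl, t0⟩)
    (u := l ^ (r.2 - s.2).val * m ^ (s.1 - r.1).val * zt ω (s.1 * (r.2 - s.2) + s.2 * (s.1 - r.1)))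
    (v := l ^ (r.2 - s.2).val * m ^ (s.1 - r.1).val * zt ω (t.1 * (r.2 - s.2) + t.2 * (s.1 - r.1)))
    fun w hw => (f8 w hw).elim fun u hu => ?_
  · linear_combination (s.1 - r.1) * h.1 + (s.2 - r.2) * h.2
  · linear_combination -e
  · linear_combination -e
  · linear_combination -e
  · by_cases ut : u = t
    · exact .inr (by rw [← hu.1, ut])
    by_cases us : u = s
    · exact .inl (by rw [← hu.1, us])
    · rw [← hu.1, not_not.1 fun ur => h ⟨u, hu.2, ur, us, ut⟩]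
      exact .inl (congrArg (_ * zt ω ·) (by ring))

/-- a Heisenberg pair -/
theorem caseB [Finite F] {z y : G} (hz : z ∈ P) (z1 : π z ≠ 1) (e : ι y * ι z = sc n ω * ι z * ι y) :
    p = 3 ∧ ¬ 9 ∣ n ∧ ∀ η ∈ μ, η ^ 9 = 1 → η ^ 3 = 1 := by
  classical
  obtain ⟨l, hl, -, a, ha, ap, e1, ca⟩ := S.norm hω h1 hm hall hz z1
  rw [e1, ← mul_assoc, ← (commute_sc l _).eq, ← mul_assoc, (commute_sc ω _).eq, mul_assoc, mul_assoc, mul_assoc,
    mul_right_inj, ← mul_assoc] at e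
  have hf := fam_ev S.hF hω h1 S.cut S.scal hm ha ap ca
  obtain ⟨m, hr⟩ : ∃ m, ∀ k : ZMod p, (ev ω a k).rank = m := by
    refine ⟨(ev ω a (0 : ZMod p)).rank, fun k => ?_⟩
    rw [← ZMod.natCast_zmod_val k]
    induction k.val with
    | zero => rw [Nat.cast_zero]
    | succ j ih => rw [rank_ev hω h1 e, Nat.cast_succ, add_sub_cancel_right, ih]
  have hn : p * m = n := by simpa [hr] using hf.sum_rank
  have h0 : ∀ k : ZMod p, ev ω a k ≠ 0 := fun k h =>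
    S.n0 (by rw [← hn, ← hr k, h, rank_zero, mul_zero])
  obtain rfl : p = 3 := by
    by_contra h3
    have h4 := hp.out.two_le
    have h5 := S.pure.odd
    refine S.no4 hω h1 hm hf (s := fun j => ((j : ℕ) : ZMod p)) (fun i j e => Fin.ext ?_) fun j => h0 _
    have h6 := congrArg ZMod.val e
    rwa [ZMod.val_natCast_of_lt (by omega), ZMod.val_natCast_of_lt (by omega)] at h6
  have f1 : ∀ k : ZMod 3, (ι z).1 * ev ω a k = ((l * zt ω k : Fˣ) : F) • ev ω a k := fun k => by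
    rw [e1, val_sc_mul, smul_mul_assoc, mul_ev hω ap, smul_smul, Units.val_mul]
  have f7 : ∀ {i j : ZMod 3}, i ≠ j → l * zt ω i ≠ l * zt ω j := fun h e => h (zt_inj hω h1 (mul_left_cancel e))
  have H : ∀ u ∈ μ, ∀ v ∈ μ, u ^ 3 ^ 2 = 1 → v ^ 3 ^ 2 = 1 → v ^ m * u ^ m * u ^ m = 1 → v = u := by
    intro u hu v hv u9 v9 h
    by_contra huv
    obtain ⟨x, h2, h3⟩ := S.exists_x hf (fun k => if k = 0 then v else u) (fun k => by split_ifs <;> assumption)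
      (N := 3 ^ 2) (fun k => by split_ifs <;> assumption) (by
        simp only [hr]
        exact (Fin.prod_univ_three _).trans h)
    refine S.no23 (S.kel_of_mem hz z1) (S.kel_fam hf h2 h3 (h0 0) (h0 1) huv)
      (f7 (show (0 : Fin 3) ≠ 1 by decide)) (f7 (show (0 : Fin 3) ≠ 2 by decide)) (f7 (show (1 : Fin 3) ≠ 2 by decide))
      ((hf.eig_iff f1 _).2 ⟨_, rfl, h0 _⟩) ((hf.eig_iff f1 _).2 ⟨_, rfl, h0 _⟩)
      ((hf.eig_iff f1 _).2 ⟨_, rfl, h0 _⟩) (u := v) (v := u) fun w hw => ?_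
    obtain ⟨k, rfl, -⟩ := (hf.eig_iff h2 _).1 hw
    split_ifs <;> simp
  refine ⟨rfl, fun h => h1 ?_, fun η hη h => ?_⟩
  · obtain ⟨j, rfl⟩ : 3 ∣ m := by omega
    exact (H ω hm 1 (one_mem _) (by rw [sq, pow_mul, hω, one_pow]) (one_pow _) (by simp [pow_mul, hω])).symm
  · have h2 := H η hη (η * η)⁻¹ (inv_mem (mul_mem hη hη)) h (by rw [inv_pow, mul_pow, show η ^ 3 ^ 2 = 1 from h]; simp)
      (by rw [← mul_pow, ← mul_pow]; simp)
    rw [pow_succ, sq, ← mul_inv_cancel (η * η), h2]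

omit hω h1 hm hall in
theorem core [Finite F] : p = 3 ∧ ∃ a b : G, ∃ ω ∈ μ, ω ≠ 1 ∧ ω ^ 3 = 1 ∧ a ^ 3 = 1 ∧ b ^ 3 = 1 ∧
    ι a * ι b = sc n ω * ι b * ι a ∧ ¬ 9 ∣ n ∧ (∀ η ∈ μ, η ^ 9 = 1 → η ^ 3 = 1) ∧
    P.map π = Subgroup.closure {π a, π b} := by
  have hall := S.dich.resolve_left S.no_tors
  obtain ⟨z, hz, z1, zc, y, hy, y1⟩ := S.exists_z
  have hB : ∀ w ∈ P, Commute z w → π w ∈ Subgroup.zpowers (π z) := fun w hw h => by
    by_contra h2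
    refine S.no_tors fun c hc e => ?_
    by_contra h3
    exact S.caseA e h3 hc hall hz hw h z1 h2
  obtain ⟨ω, hm, hω, e⟩ := S.exists_rel hy (zc y hy)
  have h1 : ω ≠ 1 := fun h => y1 (hB y hy (S.inj (by rw [map_mul, map_mul, e, h, map_one, one_mul])))
  obtain ⟨rfl, h9, h3⟩ := S.caseB hω h1 hm hall hz z1 e
  have h4 : ∀ k, ∀ l ∈ μ, l ^ 3 ^ k = 1 → l ^ 3 = 1 := fun k => by
    induction k with
    | zero => exact fun l _ h => by rw [(pow_one l).symm.trans h, one_pow]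
    | succ k ih =>
      exact fun l hl h => h3 l hl ((pow_mul l 3 3).trans (ih _ (pow_mem hl 3) (by rw [← pow_mul, ← pow_succ', h])))
  have h5 : ∀ x ∈ P, π x ≠ 1 → x ^ 3 = 1 := fun x hx x1 => by
    obtain ⟨l, hl, ⟨k, hk⟩, a, -, ap, e1, -⟩ := S.norm hω h1 hm hall hx x1
    exact S.inj (by rw [map_pow, e1, (commute_sc _ _).mul_pow, ap, sc_pow (h4 k l hl hk), one_mul, map_one])
  refine ⟨rfl, y, z, ω, hm, h1, hω, h5 y hy fun h => y1 (by rw [h]; exact one_mem _), h5 z hz z1, e, h9, h3,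
    le_antisymm ?_ ((Subgroup.closure_le _).2 ?_)⟩
  · rintro _ ⟨w, hw, rfl⟩
    obtain ⟨c, -, c1, e1⟩ := S.exists_rel hw (zc w hw)
    obtain ⟨j, -, rfl⟩ := (IsPrimitiveRoot.iff_orderOf.2 (orderOf_eq_prime hω h1)).eq_pow_of_mem_rootsOfUnity
      ((mem_rootsOfUnity _ _).2 c1)
    have h6 := hB _ (mul_mem (inv_mem (pow_mem hy j)) hw) (S.inj (by
      have h7 := pow_mul_of_rel (commute_sc ω _) e j
      simp only [map_mul, map_inv, map_pow]
      rw [mul_assoc, e1, map_pow, eq_inv_mul_iff_mul_eq, ← mul_assoc, h7, mul_assoc, mul_inv_cancel_left]))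
    rw [← mul_inv_cancel_left (π y ^ j) (π w), ← map_pow, ← map_inv, ← map_mul, map_pow]
    exact mul_mem (pow_mem (Subgroup.subset_closure (by simp)) j)
      (Subgroup.zpowers_le_of_mem (Subgroup.subset_closure (by simp)) h6)
  · rintro _ (rfl | rfl)
    exacts [⟨y, hy, rfl⟩, ⟨z, hz, rfl⟩]

end Ctx

end Cfsg.Agent.TO.LU
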