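import Cfsg.Agent.TO.LU.Mat

/-!
# S4817, linear and unitary groups: eigenspaces of elements of order `p` (helper1)
-/

set_option autoImplicit false

namespace Cfsg.Agent.TO.LU

open Matrix
open Cfsg.Agent.BHZ.Nil

variable {F : Type} [Field F] {n p : ℕ} [hp : Fact p.Prime]
  {C : Set (Mt n F)} {Γ : Subgroup (Mt n F)ˣ} {μ : Subgroup Fˣ} {ω : Fˣ} {a b : (Mt n F)ˣ}

theorem zt_inj (hω : ω ^ p = 1) (h1 : ω ≠ 1) : Function.Injective (zt ω : ZMod p → Fˣ) := fun k l e =>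
  ZMod.val_injective p (pow_injOn_Iio_orderOf (x := ω) (by rw [orderOf_eq_prime hω h1]; exact k.val_lt)
    (by rw [orderOf_eq_prime hω h1]; exact l.val_lt) e)

theorem zt_pow_val (hω : ω ^ p = 1) (k l : ZMod p) : zt ω k ^ l.val = zt ω (k * l) := by
  rw [← zt_mul_natCast hω, ZMod.natCast_zmod_val]

omit hp in
theorem sc_pow (hω : ω ^ p = 1) : sc n ω ^ p = 1 := by rw [← map_pow, hω, map_one]

/-- the projection to the eigenspace for `ω ^ k` -/
noncomputable def ev (ω : Fˣ) (a : (Mt n F)ˣ) (k : ZMod p) : Mt n F := fk F a (sc n ω) k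

omit hp in
theorem av_sc (hω : ω ^ p = 1) (h1 : ω ≠ 1) : av F p (sc n ω).1 = 0 := by
  have h := mul_av (F := F) (val_pow_one (sc_pow (n := n) hω))
  generalize av F p (sc n ω).1 = x at h ⊢
  rw [val_sc, smul_mul_assoc, one_mul, ← sub_eq_zero] at h
  exact (smul_eq_zero_iff_right (show (ω : F) - 1 ≠ 0 from sub_ne_zero.2 fun e => h1 (Units.ext e))).1
    (by rw [sub_smul, one_smul, h])

theorem Fk_eq (hω : ω ^ p = 1) (h1 : ω ≠ 1) (k : ZMod p) : Fk F a (sc n ω) k = ev ω a k := by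
  rw [Fk, av_sc hω h1, sub_zero, mul_one, ev]

theorem mul_ev (hω : ω ^ p = 1) (ha : a ^ p = 1) (k : ZMod p) : (a : Mt n F) * ev ω a k = (zt ω k : F) • ev ω a k := by
  rw [ev, b_mul_fk ha (sc_pow hω) (commute_sc _ _), zt, ← map_pow, val_sc, smul_mul_assoc, one_mul, zt]

theorem commute_ev {g : Mt n F} (h : Commute g a) (k : ZMod p) : Commute g (ev ω a k) :=
  commute_fk (z := sc n ω) h (Algebra.commutes (ω : F) g).symm k

variable (hF : (p : F) ≠ 0) (hω : ω ^ p = 1) (h1 : ω ≠ 1)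
include hF hω h1

theorem ev_idem (ha : a ^ p = 1) (k : ZMod p) : ev ω a k * ev ω a k = ev ω a k := by
  have h := fk_mul_Fk_self hF ha (sc_pow hω) (commute_sc _ _) k
  rwa [Fk_eq hω h1] at h

theorem ev_orth (ha : a ^ p = 1) {j k : ZMod p} (e : j ≠ k) : ev ω a j * ev ω a k = 0 := by
  have h := fk_mul_Fk_ne hF ha (sc_pow hω) (commute_sc _ _) e
  rwa [Fk_eq hω h1] at h

theorem ev_sum : ∑ k : ZMod p, ev ω a k = 1 := by
  rw [← Finset.sum_congr rfl fun k _ => Fk_eq (a := a) hω h1 k, sum_Fk hF (sc_pow hω) (commute_sc _ _), av_sc hω h1,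
    sub_zero]

omit hF in
theorem rank_ev (hab : b * a = sc n ω * a * b) (k : ZMod p) : (ev ω a k).rank = (ev ω a (k - 1)).rank := by
  have h := a_mul_Fk (F := F) (sc_pow hω) (commute_sc _ _) (commute_sc _ _) hab k
  rw [Fk_eq hω h1, Fk_eq hω h1] at h
  rw [← rank_mul_eq_right_of_isUnit_det _ _ (isUnits_det_units b), h,
    rank_mul_eq_left_of_isUnit_det _ _ (isUnits_det_units b)]

variable (hΓ : CutClosed p F Γ) (hs : ∀ c ∈ μ, sc n c ∈ Γ) (hm : ω ∈ μ)
include hΓ hs hm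

omit hF h1 in
theorem good_ev (haΓ : a ∈ Γ) (ha : a ^ p = 1) (k : ZMod p) : Good Γ (ev ω a k) :=
  hΓ.good (mul_mem haΓ (pow_mem (hs ω hm) _)) (pow_bz ha (sc_pow hω) (commute_sc _ _) _)

theorem gd_ev (haΓ : a ∈ Γ) (ha : a ^ p = 1) (hC : ∀ y ∈ C, Commute y a) (k : ZMod p) : Gd C Γ μ (ev ω a k) :=
  one_mul (ev ω a k) ▸ (gd_one hs).mul (ev_idem hF hω h1 ha k) (fun y hy => commute_ev (hC y hy) k)
    (good_ev hω hΓ hs hm haΓ ha k) (Commute.one_left _)

theorem fam_ev (haΓ : a ∈ Γ) (ha : a ^ p = 1) (hC : ∀ y ∈ C, Commute y a) : Fam C Γ μ (ev ω a : ZMod p → _) :=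
  ⟨gd_ev hF hω h1 hΓ hs hm haΓ ha hC, fun _ _ => ev_orth hF hω h1 ha, ev_sum hF hω h1⟩

theorem fam_ev2 (haΓ : a ∈ Γ) (ha : a ^ p = 1) (hC : ∀ y ∈ C, Commute y a) (hbΓ : b ∈ Γ) (hb : b ^ p = 1)
    (hC' : ∀ y ∈ C, Commute y b) (hab : Commute a b) :
    Fam C Γ μ fun x : ZMod p × ZMod p => ev ω a x.1 * ev ω b x.2 := by
  have hc : ∀ j k : ZMod p, Commute (ev ω a j) (ev ω b k) := fun j k =>
    commute_ev (commute_ev (Commute.units_val hab).symm j).symm k
  refine ⟨fun x => (gd_ev hF hω h1 hΓ hs hm haΓ ha hC _).mul (ev_idem hF hω h1 hb _)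
    (fun y hy => commute_ev (hC' y hy) _) (good_ev hω hΓ hs hm hbΓ hb _) (hc _ _), fun x y e => ?_, ?_⟩
  · rw [(hc _ _).symm.mul_mul_mul_comm]
    by_cases e1 : x.1 = y.1
    · rw [ev_orth hF hω h1 hb fun e2 => e (Prod.ext e1 e2), mul_zero]
    · rw [ev_orth hF hω h1 ha e1, zero_mul]
  · rw [Fintype.sum_prod_type, ← Finset.sum_mul_sum, ev_sum hF hω h1, ev_sum hF hω h1, one_mul]

omit hω h1 hΓ hs hm

theorem exists_Fk {z : (Mt n F)ˣ} (hz : z ^ p = 1) (z1 : z ≠ 1) (h : Commute z b) : ∃ k : ZMod p, Fk F b z k ≠ 0 := by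
  by_contra e
  push Not at e
  have h2 := sum_Fk hF hz h
  rw [Finset.sum_eq_zero fun k _ => e k, eq_comm, sub_eq_zero] at h2
  exact z1 (Units.ext (by rw [← mul_one z.1, h2, mul_av (val_pow_one hz), ← h2, Units.val_one]))

omit hp in
theorem exists_quot (z : Mt n F) : ∃ q, (z - 1) * q = 1 - av F p z := by
  obtain ⟨q, hq⟩ : z - 1 ∣ ∑ i ∈ Finset.range p, (z ^ i - 1 ^ i) :=
    Finset.dvd_sum fun i _ => (Commute.one_right z).sub_dvd_pow_sub_pow i
  refine ⟨-(p : F)⁻¹ • q, ?_⟩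
  rw [Matrix.mul_smul, ← hq, Finset.sum_sub_distrib, neg_smul, smul_sub, neg_sub]
  exact congrArg (· - _) (av_one hF)

/-- cuts with different fixed spaces -/
theorem exists_cut (hΓ : CutClosed p F Γ) {x y : (Mt n F)ˣ} (hx : x ∈ Γ) (hy : y ∈ Γ) (xp : x ^ p = 1) (yp : y ^ p = 1)
    (hxy : Commute x y) (x1 : x ≠ 1) (y1 : y ∉ Subgroup.zpowers x) :
    ∃ u ∈ Γ, ∃ v ∈ Γ, u ^ p = 1 ∧ v ^ p = 1 ∧ ed v.1 1 < ed u.1 1 ∧ ed u.1 1 < n ∧
      ∀ g : Mt n F, Commute g x → Commute g y → Commute g u ∧ Commute g v := by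
  obtain ⟨k, hk⟩ := exists_Fk hF xp x1 hxy
  have bp := pow_bz yp xp hxy (-k)
  have hb : y * zt x (-k) ∈ Γ := mul_mem hy (pow_mem hx _)
  have xb : Commute x (y * zt x (-k)) := hxy.mul_right (Commute.self_pow _ _)
  have gb : ∀ g : Mt n F, Commute g x → Commute g y → Commute g (y * zt x (-k) : (Mt n F)ˣ) := fun g h1 h2 =>
    h2.mul_right (Units.val_pow_eq_pow_val x _ ▸ h1.pow_right _)
  have b1 : y * zt x (-k) ≠ 1 := fun e => y1 (mul_eq_one_iff_eq_inv.1 e ▸ inv_mem (Subgroup.npow_mem_zpowers x _))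
  rw [Fk, fk] at hk
  generalize y * zt x (-k) = b at *
  obtain ⟨l, hl⟩ := exists_Fk hF bp b1 xb.symm
  have zp := pow_bz xp bp xb.symm (-l)
  have hz : x * zt b (-l) ∈ Γ := mul_mem hx (pow_mem hb _)
  have bz : Commute b (x * zt b (-l)) := xb.symm.mul_right (Commute.self_pow _ _)
  have gz : ∀ g : Mt n F, Commute g x → Commute g b → Commute g (x * zt b (-l) : (Mt n F)ˣ) := fun g h1 h2 =>
    h1.mul_right (Units.val_pow_eq_pow_val b _ ▸ h2.pow_right _)
  rw [Fk, fk] at hl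
  generalize x * zt b (-l) = z at *
  have ib := av_idem hF (val_pow_one bp)
  have iz := av_idem hF (val_pow_one zp)
  have c1 : Commute (x : Mt n F) (av F p b.1) := commute_av xb.units_val
  have c2 : Commute (b : Mt n F) (av F p z.1) := commute_av bz.units_val
  have c3 : Commute (av F p b.1) (av F p z.1) := commute_av (commute_av bz.units_val.symm).symm
  have c4 : Commute (av F p b.1) (av F p x.1) := commute_av c1.symm
  have mb : (b.1 - 1) * av F p b.1 = 0 := by rw [sub_mul, mul_av (val_pow_one bp), one_mul, sub_self]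
  have mb' : av F p b.1 * (b.1 - 1) = 0 :=
    (((commute_av (Commute.refl b.1)).sub_left (Commute.one_left _)).eq).symm.trans mb
  let u := cutHom ib ⟨x, c1⟩
  let w := cutHom iz ⟨b, c2⟩
  have up : u ^ p = 1 := by rw [← map_pow, show (⟨x, c1⟩ : commU _) ^ p = 1 from Subtype.ext xp, map_one]
  have wp : w ^ p = 1 := by rw [← map_pow, show (⟨b, c2⟩ : commU _) ^ p = 1 from Subtype.ext bp, map_one]
  have eu : u.1 = 1 + av F p b.1 * (x.1 - 1) := by rw [val_cutHom, mul_sub, ← c1.eq, mul_one]; abel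
  have ew : w.1 = 1 + (b.1 - 1) * av F p z.1 := by rw [val_cutHom, sub_mul, one_mul]; abel
  have gu : ∀ g : Mt n F, Commute g x → Commute g b → Commute g u := fun g h1 h2 =>
    eu ▸ (Commute.one_right g).add_right ((commute_av h2).mul_right (h1.sub_right (Commute.one_right g)))
  have gw : ∀ g : Mt n F, Commute g x → Commute g b → Commute g w := fun g h1 h2 =>
    ew ▸ (Commute.one_right g).add_right ((h2.sub_right (Commute.one_right g)).mul_right (commute_av (gz g h1 h2)))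
  have c5 : Commute (av F p b.1) (x.1 - 1) := c1.symm.sub_right (Commute.one_right _)
  have c6 : Commute (b.1 - 1) (av F p z.1) := c2.sub_left (Commute.one_left _)
  have euw : (u * w).1 - (1 : F) • 1 = av F p b.1 * (x.1 - 1) + (b.1 - 1) * av F p z.1 := by
    rw [Units.val_mul, eu, ew, add_mul, one_mul, mul_add, mul_one, c5.eq, mul_assoc, ← mul_assoc _ (b.1 - 1), mb',
      zero_mul, mul_zero, one_smul]
    abel
  obtain ⟨q, hq⟩ := exists_quot hF x.1
  obtain ⟨q', hq'⟩ := exists_quot hF b.1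
  have i1 : ∀ {s t : Mt n F}, s * s = s → t * t = t → Commute s t → s * (1 - t) * (s * (1 - t)) = s * (1 - t) :=
    fun {s t} h1 h2 h3 => by
      rw [((Commute.one_left s).sub_left h3.symm).mul_mul_mul_comm, h1, (IsIdempotentElem.one_sub h2).eq]
  have nb : (1 - av F p b.1) * av F p b.1 = 0 := by rw [sub_mul, ib, one_mul, sub_self]
  have nb' : av F p b.1 * (1 - av F p b.1) = 0 := by rw [mul_sub, ib, mul_one, sub_self]
  have r1 := rank_add (i1 ib (av_idem hF (val_pow_one xp)) c4) (i1 iz ib c3.symm) (by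
    rw [((Commute.one_right _).sub_right c4).eq, mul_assoc, ← mul_assoc (av F p b.1), c3.eq, mul_assoc, nb', mul_zero,
      mul_zero]) (by rw [mul_assoc, ← mul_assoc (1 - _), nb, zero_mul, mul_zero])
  have r2 := rank_mul_le_left ((u * w).1 - (1 : F) • 1) (av F p b.1 * q + (1 - av F p b.1) * q')
  have r3 := rank_mul_le_left (av F p b.1 * (1 - av F p x.1)) (x.1 - 1)
  have r4 := rank_mul_le_left (av F p b.1 * (x.1 - 1)) q
  have e1 : ((u * w).1 - (1 : F) • 1) * (av F p b.1 * q + (1 - av F p b.1) * q') =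
      av F p b.1 * (1 - av F p x.1) + av F p z.1 * (1 - av F p b.1) := by
    rw [euw, mul_add, add_mul, add_mul, ← mul_assoc, ← mul_assoc, ← mul_assoc, ← mul_assoc, c5.eq, c6.eq,
      mul_assoc _ _ (av F p b.1), mul_assoc _ _ (av F p b.1), mul_assoc _ _ (1 - _), mul_assoc _ _ (1 - _), ib, mb, nb',
      mul_sub (b.1 - 1), mb, ← c5.eq, mul_assoc, hq, mul_one, sub_zero, mul_assoc (av F p z.1) _ q', hq']
    simp
  have e2 : av F p b.1 * (1 - av F p x.1) * (x.1 - 1) = av F p b.1 * (x.1 - 1) := by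
    rw [mul_assoc, sub_mul, mul_sub (av F p x.1), ← (commute_av (Commute.refl x.1)).eq, mul_av (val_pow_one xp),
      mul_one, sub_self, sub_zero, one_mul]
  rw [e1, r1] at r2
  rw [e2] at r3
  rw [mul_assoc, hq] at r4
  have r5 := rank_pos hk
  have r6 := rank_pos hl
  have r7 := rank_le_width ((u * w).1 - (1 : F) • 1)
  have e3 : u.1 - (1 : F) • 1 = av F p b.1 * (x.1 - 1) := by rw [eu, one_smul, add_sub_cancel_left]
  refine ⟨u, (hΓ.good hb bp).cutHom_mem ib hx, u * w,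
    mul_mem ((hΓ.good hb bp).cutHom_mem ib hx) ((hΓ.good hz zp).cutHom_mem iz hb), up, ?_, ?_, ?_, fun g h1 h2 =>
      ⟨gu g h1 (gb g h1 h2), (gu g h1 (gb g h1 h2)).mul_right (gw g h1 (gb g h1 h2))⟩⟩
  · rw [Commute.mul_pow (Units.ext (gw _ (gu _ (Commute.refl _) xb.units_val).symm
      (gu _ xb.units_val.symm (Commute.refl _)).symm)), up, wp, one_mul]
  · rw [ed, ed, e3]
    omega
  · rw [ed, e3]
    omega

end Cfsg.Agent.TO.LU
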