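import Mathlib.Data.ZMod.Basic
import Mathlib.Algebra.Field.ZMod
import Mathlib.Algebra.BigOperators.Fin
import Mathlib.Tactic.FieldSimp
import Mathlib.Tactic.LinearCombination
import Mathlib.Tactic.Linarith
import Mathlib.Tactic.Ring

/-!
# S4817, linear and unitary groups: four blocks are too many (helper1)
-/

set_option autoImplicit false

namespace Cfsg.Agent.TO.LU

section Field

variable {K : Type} [Field K]

/-- a relation with three different coefficients -/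
def So (k l m : K) : Prop := ∃ u v w : K, u ≠ v ∧ u ≠ w ∧ v ≠ w ∧ u * k + v * l + w * m = 0

/-- all zero or all nonzero -/
def Go (k l m : K) : Prop := (k = 0 ∧ l = 0 ∧ m = 0) ∨ (k ≠ 0 ∧ l ≠ 0 ∧ m ≠ 0)

theorem so_of_ne (h2 : (2 : K) ≠ 0) {k l m : K} (h : k + l + m ≠ 0) : So k l m :=
  ⟨(m - l) / (k + l + m), (m - l) / (k + l + m) + 1, (m - l) / (k + l + m) - 1, by simp,
    fun e => one_ne_zero (α := K) (by linear_combination e), fun e => h2 (by linear_combination e), by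
      field_simp
      ring⟩

theorem so_of_go (h2 : (2 : K) ≠ 0) {k l m : K} (h : k + l + m = 0) (hg : Go k l m) : So k l m := by
  rcases hg with ⟨rfl, rfl, rfl⟩ | ⟨h1, h3, h4⟩
  · exact ⟨0, 1, -1, by simp, by simp, fun e => h2 (by linear_combination e), by simp⟩
  · exact ⟨l, -k, 0, fun e => h4 (by linear_combination h - e), h3, neg_ne_zero.2 h1, by ring⟩

theorem go_split (h2 : (2 : K) ≠ 0) {a b c d : K} (h : a + b + c + d = 0) :
    Go (a + b) c d ∨ Go (a + c) b d ∨ Go (a + d) b c ∨ Go (b + c) a d ∨ Go (b + d) a c ∨ Go (c + d) a b := by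
  unfold Go
  grind

end Field

/-- merged ranks -/
def mr (r : Fin 4 → ℕ) (c : Fin 4 → Fin 3) (v : Fin 3) : ℕ := ∑ i with c i = v, r i

theorem lc4 {p : ℕ} [hp : Fact p.Prime] (hp2 : p ≠ 2) {r : Fin 4 → ℕ} (hr : ∀ i, 0 < r i) (T : ℕ → ℕ → ℕ → Prop)
    (hT : ∀ k l m k' l' m', T k l m → T k' l' m' → ∀ g : ℕ → ℕ, g 0 = 0 → g k + g l + g m = g k' + g l' + g m')
    (H : ∀ c : Fin 4 → Fin 3, 0 < mr r c 0 → 0 < mr r c 1 → So (mr r c 0 : ZMod p) (mr r c 1) (mr r c 2) →
      T (mr r c 0) (mr r c 1) (mr r c 2)) : False := by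
  have h2 : (2 : ZMod p) ≠ 0 := fun e =>
    hp2 ((Nat.prime_dvd_prime_iff_eq hp.out Nat.prime_two).1 ((ZMod.natCast_eq_zero_iff 2 p).1 e))
  have H' : ∀ (c : Fin 4 → Fin 3) (k l m : ℕ), mr r c 0 = k ∧ mr r c 1 = l ∧ mr r c 2 = m → 0 < k → 0 < l →
      So (k : ZMod p) l m → T k l m := by
    rintro c _ _ _ ⟨rfl, rfl, rfl⟩
    exact H c
  have ha := hr 0
  have hb := hr 1
  have hc := hr 2
  have hd := hr 3
  have t1 := H' ![0, 0, 1, 2] (r 0 + r 1) (r 2) (r 3) (by simp [mr, Finset.sum_filter, Fin.sum_univ_four]) (by omega) hc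
  have t2 := H' ![0, 1, 0, 2] (r 0 + r 2) (r 1) (r 3) (by simp [mr, Finset.sum_filter, Fin.sum_univ_four]) (by omega) hb
  have t3 := H' ![0, 1, 2, 0] (r 0 + r 3) (r 1) (r 2) (by simp [mr, Finset.sum_filter, Fin.sum_univ_four]) (by omega) hb
  have t4 := H' ![1, 0, 0, 2] (r 1 + r 2) (r 0) (r 3) (by simp [mr, Finset.sum_filter, Fin.sum_univ_four]) (by omega) ha
  have t5 := H' ![1, 0, 2, 0] (r 1 + r 3) (r 0) (r 2) (by simp [mr, Finset.sum_filter, Fin.sum_univ_four]) (by omega) ha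
  have t6 := H' ![1, 2, 0, 0] (r 2 + r 3) (r 0) (r 1) (by simp [mr, Finset.sum_filter, Fin.sum_univ_four]) (by omega) ha
  have s1 := H' ![0, 1, 1, 1] (r 0) (r 1 + r 2 + r 3) 0 (by simp [mr, Finset.sum_filter, Fin.sum_univ_four]) ha (by omega)
  have s2 := H' ![1, 0, 1, 1] (r 1) (r 0 + r 2 + r 3) 0 (by simp [mr, Finset.sum_filter, Fin.sum_univ_four]) hb (by omega)
  have s3 := H' ![1, 1, 0, 1] (r 2) (r 0 + r 1 + r 3) 0 (by simp [mr, Finset.sum_filter, Fin.sum_univ_four]) hc (by omega)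
  have s4 := H' ![1, 1, 1, 0] (r 3) (r 0 + r 1 + r 2) 0 (by simp [mr, Finset.sum_filter, Fin.sum_univ_four]) hd (by omega)
  have s5 := H' ![0, 0, 1, 1] (r 0 + r 1) (r 2 + r 3) 0 (by simp [mr, Finset.sum_filter, Fin.sum_univ_four])
    (by omega) (by omega)
  have s6 := H' ![0, 1, 0, 1] (r 0 + r 2) (r 1 + r 3) 0 (by simp [mr, Finset.sum_filter, Fin.sum_univ_four])
    (by omega) (by omega)
  have s7 := H' ![0, 1, 1, 0] (r 0 + r 3) (r 1 + r 2) 0 (by simp [mr, Finset.sum_filter, Fin.sum_univ_four])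
    (by omega) (by omega)
  generalize r 0 = a, r 1 = b, r 2 = c, r 3 = d at *
  push_cast at t1 t2 t3 t4 t5 t6 s1 s2 s3 s4 s5 s6 s7
  have h23 : ∀ {k l m k' l' : ℕ}, T k l m → T k' l' 0 → 0 < k → 0 < l → 0 < m → False := fun h1 h3 _ _ _ => by
    have := hT _ _ _ _ _ _ h1 h3 (min 1) rfl
    omega
  by_cases hs : (a : ZMod p) + b + c + d = 0
  swap
  · exact h23 (t1 (so_of_ne h2 hs)) (s4 (so_of_ne h2 fun e => hs (by linear_combination e))) (by omega) hc hd
  obtain ⟨k, l, m, h1, h3, h4, h5⟩ : ∃ k l m, 0 < k ∧ 0 < l ∧ 0 < m ∧ T k l m := by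
    rcases go_split h2 hs with h | h | h | h | h | h
    · exact ⟨_, _, _, by omega, hc, hd, t1 (so_of_go h2 (by linear_combination hs) h)⟩
    · exact ⟨_, _, _, by omega, hb, hd, t2 (so_of_go h2 (by linear_combination hs) h)⟩
    · exact ⟨_, _, _, by omega, hb, hc, t3 (so_of_go h2 (by linear_combination hs) h)⟩
    · exact ⟨_, _, _, by omega, ha, hd, t4 (so_of_go h2 (by linear_combination hs) h)⟩
    · exact ⟨_, _, _, by omega, ha, hc, t5 (so_of_go h2 (by linear_combination hs) h)⟩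
    · exact ⟨_, _, _, by omega, ha, hb, t6 (so_of_go h2 (by linear_combination hs) h)⟩
  have z : ∀ {k' l' : ℕ} {x y : ZMod p}, (So x y 0 → T k' l' 0) → x + y = 0 → x ≠ 0 := fun h e e' =>
    h23 h5 (h (so_of_go h2 (by linear_combination e) (.inl ⟨e', by linear_combination e - e', rfl⟩))) h1 h3 h4
  have z1 := z s1 (by linear_combination hs)
  have z2 := z s2 (by linear_combination hs)
  have z3 := z s3 (by linear_combination hs)
  have z4 := z s4 (by linear_combination hs)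
  have z7 := z s7 (by linear_combination hs)
  have u1 := t1 (so_of_go h2 (by linear_combination hs) (.inr ⟨z s5 (by linear_combination hs), z3, z4⟩))
  have u2 := t2 (so_of_go h2 (by linear_combination hs) (.inr ⟨z s6 (by linear_combination hs), z2, z4⟩))
  have u3 := t3 (so_of_go h2 (by linear_combination hs) (.inr ⟨z7, z2, z3⟩))
  have u4 := t4 (so_of_go h2 (by linear_combination hs) (.inr ⟨fun e => z7 (by linear_combination hs - e), z1, z4⟩))
  have e1 := hT _ _ _ _ _ _ u1 u2 (· ^ 2) rfl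
  have e2 := hT _ _ _ _ _ _ u1 u3 (· ^ 2) rfl
  have e3 := hT _ _ _ _ _ _ u1 u4 (· ^ 2) rfl
  obtain rfl : b = c := Nat.eq_of_mul_eq_mul_left ha (by nlinarith)
  obtain rfl : b = d := Nat.eq_of_mul_eq_mul_left ha (by nlinarith)
  obtain rfl : a = b := Nat.eq_of_mul_eq_mul_right hb (by nlinarith)
  exact mul_ne_zero h2 (mul_ne_zero h2 z1) (by linear_combination hs)

end Cfsg.Agent.TO.LU
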