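import Cfsg.Agent.BHZ.Nil.ClForm

/-!
# S4817, linear and unitary groups: idempotent matrices (helper1)
-/

set_option autoImplicit false

namespace Cfsg.Agent.TO.LU

open Matrix Module
open Cfsg.Agent.BHZ.Nil

variable {F : Type} [Field F] {n : ℕ}

/-- square matrices -/
abbrev Mt (n : ℕ) (F : Type) : Type := Matrix (Fin n) (Fin n) F

theorem eq_zero_of_rank {e : Mt n F} (h : e.rank = 0) : e = 0 :=
  toLin'.injective ((LinearMap.range_eq_bot.1 (Submodule.finrank_eq_zero.1 h)).trans (map_zero _).symm)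

theorem rank_pos {e : Mt n F} (h : e ≠ 0) : 0 < e.rank := Nat.pos_of_ne_zero fun e => h (eq_zero_of_rank e)

theorem rank_add {e f : Mt n F} (he : e * e = e) (hf : f * f = f) (h : e * f = 0) (h' : f * e = 0) :
    (e + f).rank = e.rank + f.rank := by
  have h1 : LinearMap.range (e + f).mulVecLin = LinearMap.range e.mulVecLin ⊔ LinearMap.range f.mulVecLin := by
    refine le_antisymm ?_ (sup_le ?_ ?_)
    · rintro _ ⟨v, rfl⟩
      exact Submodule.mem_sup.2 ⟨_, ⟨v, rfl⟩, _, ⟨v, rfl⟩, (add_mulVec e f v).symm⟩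
    · rintro _ ⟨v, rfl⟩
      exact ⟨e *ᵥ v, by rw [mulVecLin_apply, mulVec_mulVec, add_mul, he, h', add_zero, mulVecLin_apply]⟩
    · rintro _ ⟨v, rfl⟩
      exact ⟨f *ᵥ v, by rw [mulVecLin_apply, mulVec_mulVec, add_mul, hf, h, zero_add, mulVecLin_apply]⟩
  have h2 : LinearMap.range e.mulVecLin ⊓ LinearMap.range f.mulVecLin = ⊥ := by
    rw [eq_bot_iff]
    rintro _ ⟨⟨v, rfl⟩, w, hw⟩
    rw [mulVecLin_apply, mulVecLin_apply] at hw
    rw [Submodule.mem_bot, mulVecLin_apply, ← he, ← mulVec_mulVec, ← hw, mulVec_mulVec, h, zero_mulVec]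
  have h3 := Submodule.finrank_sup_add_finrank_inf_eq (LinearMap.range e.mulVecLin) (LinearMap.range f.mulVecLin)
  rwa [h2, finrank_bot, add_zero, ← h1] at h3

theorem det_cut {e : Mt n F} (he : e * e = e) (c : F) : (c • e + (1 - e)).det = c ^ e.rank := by
  have h := LinearMap.IsIdempotentElem.isProj_range (toLin' e) (by rw [IsIdempotentElem, Module.End.mul_eq_comp,
    ← toLin'_mul, he])
  have h1 : toLin' (c • e + (1 - e)) = ((LinearMap.range (toLin' e)).prodEquivOfIsCompl _ h.isCompl).conj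
      (LinearMap.prodMap (c • LinearMap.id) LinearMap.id) := by
    have h2 := h.eq_conj_prodMap
    generalize (LinearMap.range (toLin' e)).prodEquivOfIsCompl _ h.isCompl = E at h2 ⊢
    rw [map_add, map_smul, map_sub, toLin'_one, ← LinearEquiv.conj_id E]
    refine (congrArg (fun x => c • x + (E.conj LinearMap.id - x)) h2).trans ?_
    rw [← map_smul, ← map_sub, ← map_add]
    congr 1
    ext <;> simp
  rw [← LinearMap.det_toLin', h1, LinearEquiv.conj_apply, LinearMap.comp_assoc, LinearMap.det_conj,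
    LinearMap.det_prodMap, LinearMap.det_smul, LinearMap.det_id, LinearMap.det_id, mul_one, mul_one]
  rfl

/-- the dimension of the eigenspace -/
noncomputable def ed (x : Mt n F) (l : F) : ℕ := n - (x - l • 1).rank

theorem rank_smul {c : F} (hc : c ≠ 0) (x : Mt n F) : (c • x).rank = x.rank :=
  rank_smul_of_mem_nonZeroDivisors x (mem_nonZeroDivisors_of_ne_zero hc)

theorem ed_smul {c : F} (hc : c ≠ 0) (x : Mt n F) (l : F) : ed (c • x) (c * l) = ed x l := by
  rw [ed, ed, mul_smul, ← smul_sub, rank_smul hc]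

theorem pow_eq_of_ed {x : Mt n F} {l c : F} {k : ℕ} (h : x ^ k = c • 1) (hl : ed x l ≠ 0) : l ^ k = c := by
  by_contra e
  obtain ⟨y, hy⟩ := ((Commute.one_right x).smul_right l).sub_dvd_pow_sub_pow k
  have h1 := rank_mul_le_left (x - l • 1) y
  rw [← hy, h, _root_.smul_pow, one_pow, ← sub_smul, rank_smul (sub_ne_zero.2 (Ne.symm e)), rank_one,
    Fintype.card_fin] at h1
  exact hl (Nat.sub_eq_zero_of_le h1)

/-- scalar matrices -/
def sc (n : ℕ) : Fˣ →* (Mt n F)ˣ := Units.map (algebraMap F (Mt n F)).toMonoidHom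

theorem val_sc (c : Fˣ) : (sc n c : Mt n F) = (c : F) • 1 := Algebra.algebraMap_eq_smul_one _

theorem commute_sc (c : Fˣ) (g : (Mt n F)ˣ) : Commute (sc n c) g :=
  Units.ext (Algebra.commutes (c : F) (g : Mt n F))

variable {C : Set (Mt n F)} {Γ : Subgroup (Mt n F)ˣ} {μ : Subgroup Fˣ}

/-- idempotents in the commutant of `C` along which the scalars can be cut -/
structure Gd (C : Set (Mt n F)) (Γ : Subgroup (Mt n F)ˣ) (μ : Subgroup Fˣ) (e : Mt n F) : Prop where
  idem : e * e = e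
  cc : ∀ y ∈ C, Commute y e
  cut : ∀ c ∈ μ, ∃ g ∈ Γ, (g : Mt n F) = (c : F) • e + (1 - e)

theorem gd_zero : Gd C Γ μ 0 :=
  ⟨zero_mul _, fun y _ => Commute.zero_right y, fun c _ => ⟨1, one_mem Γ, by simp⟩⟩

theorem Gd.add {e f : Mt n F} (he : Gd C Γ μ e) (hf : Gd C Γ μ f) (h : e * f = 0) (h' : f * e = 0) :
    Gd C Γ μ (e + f) where
  idem := by rw [add_mul, mul_add, mul_add, he.idem, hf.idem, h, h', add_zero, zero_add]
  cc y hy := (he.cc y hy).add_right (hf.cc y hy)
  cut c hc := by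
    obtain ⟨x, hx, e1⟩ := he.cut c hc
    obtain ⟨y, hy, e2⟩ := hf.cut c hc
    refine ⟨x * y, mul_mem hx hy, ?_⟩
    simp only [Units.val_mul, e1, e2, add_mul, mul_add, sub_mul, mul_sub, smul_mul_assoc, Matrix.mul_smul, h, one_mul,
      mul_one]
    module

theorem Gd.mul {e f : Mt n F} (he : Gd C Γ μ e) (hf : f * f = f) (hc : ∀ y ∈ C, Commute y f) (hg : Good Γ f)
    (h : Commute e f) : Gd C Γ μ (e * f) where
  idem := by rw [mul_assoc, ← mul_assoc f, ← h.eq, mul_assoc e f f, hf, ← mul_assoc, he.idem]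
  cc y hy := (he.cc y hy).mul_right (hc y hy)
  cut c hc := by
    obtain ⟨x, hx, e1⟩ := he.cut c hc
    obtain ⟨y, hy, e2⟩ := hg x hx (e1 ▸ (h.smul_left _).add_left ((Commute.one_left f).sub_left h))
    refine ⟨y, hy, ?_⟩
    rw [e2, e1, add_mul, sub_mul, smul_mul_assoc, one_mul]
    abel

theorem gd_one (hs : ∀ c ∈ μ, sc n c ∈ Γ) : Gd C Γ μ 1 :=
  ⟨one_mul _, fun y _ => Commute.one_right y, fun c hc => ⟨_, hs c hc, by rw [val_sc, sub_self, add_zero]⟩⟩

/-- decompositions of the identity -/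
structure Fam (C : Set (Mt n F)) (Γ : Subgroup (Mt n F)ˣ) (μ : Subgroup Fˣ) {ι : Type} [Fintype ι] (e : ι → Mt n F) :
    Prop where
  gd : ∀ i, Gd C Γ μ (e i)
  orth : ∀ i j, i ≠ j → e i * e j = 0
  sum : ∑ i, e i = 1

namespace Fam

variable {ι : Type} [Fintype ι] {e : ι → Mt n F} (h : Fam C Γ μ e)
include h

theorem sum_orth {s t : Finset ι} (hd : Disjoint s t) : (∑ i ∈ s, e i) * ∑ i ∈ t, e i = 0 := by
  rw [Finset.sum_mul_sum]
  exact Finset.sum_eq_zero fun i hi => Finset.sum_eq_zero fun j hj => h.orth i j (Finset.disjoint_iff_ne.1 hd i hi j hj)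

theorem gd_sum (s : Finset ι) : Gd C Γ μ (∑ i ∈ s, e i) ∧ (∑ i ∈ s, e i).rank = ∑ i ∈ s, (e i).rank := by
  classical
  induction s using Finset.induction_on with
  | empty => exact ⟨gd_zero, rank_zero⟩
  | insert i s hi ih =>
    have h1 := h.sum_orth (Finset.disjoint_singleton_left.2 hi)
    have h2 := h.sum_orth (Finset.disjoint_singleton_right.2 hi)
    rw [Finset.sum_singleton] at h1 h2
    rw [Finset.sum_insert hi, Finset.sum_insert hi, rank_add (h.gd i).idem ih.1.idem h1 h2, ih.2]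
    exact ⟨(h.gd i).add ih.1 h1 h2, rfl⟩

theorem sum_rank : ∑ i, (e i).rank = n := by rw [← (h.gd_sum _).2, h.sum, rank_one, Fintype.card_fin]

theorem merge {κ : Type} [Fintype κ] [DecidableEq κ] (c : ι → κ) : Fam C Γ μ fun v => ∑ i with c i = v, e i where
  gd _ := (h.gd_sum _).1
  orth _ _ huv := h.sum_orth (Finset.disjoint_filter.2 fun _ _ e1 e2 => huv (e1.symm.trans e2))
  sum := (Finset.sum_fiberwise _ _ _).trans h.sum

theorem ext {x y : Mt n F} (e1 : ∀ i, x * e i = y * e i) : x = y := by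
  rw [← mul_one x, ← mul_one y, ← h.sum, Finset.mul_sum, Finset.mul_sum, Finset.sum_congr rfl fun i _ => e1 i]

theorem sum_mul (v : ι → F) (i : ι) : (∑ j, v j • e j) * e i = v i • e i := by
  rw [Finset.sum_mul, Finset.sum_eq_single i (fun j _ hj => by rw [smul_mul_assoc, h.orth j i hj, smul_zero])
    (fun e => (e (Finset.mem_univ i)).elim), smul_mul_assoc, (h.gd i).idem]

theorem ed_eq [DecidableEq F] {x : Mt n F} {v : ι → F} (hx : ∀ i, x * e i = v i • e i) (l : F) :
    ed x l = ∑ i with v i = l, (e i).rank := by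
  have h0 : ∀ i, (x - l • 1) * e i = (v i - l) • e i := fun i => by rw [sub_mul, hx, smul_mul_assoc, one_mul, sub_smul]
  have h1 : ∑ i with ¬ v i = l, e i = ∑ i, (if v i = l then (0 : F) else 1) • e i := by
    rw [Finset.sum_filter]
    exact Finset.sum_congr rfl fun i _ => by split_ifs <;> simp [*]
  have h2 : (x - l • 1).rank = (∑ i with ¬ v i = l, e i).rank := by
    refine le_antisymm ?_ ?_
    · refine le_of_eq_of_le (congrArg _ (h.ext fun i => ?_)) (rank_mul_le_right (x - l • 1) _)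
      rw [mul_assoc, h1, h.sum_mul, Matrix.mul_smul, h0]
      split_ifs with e <;> simp [e]
    · refine le_of_eq_of_le (congrArg _ (h.ext fun i => ?_)) (rank_mul_le_left _ (∑ i, (v i - l)⁻¹ • e i))
      rw [mul_assoc, h1, h.sum_mul, h.sum_mul, Matrix.mul_smul, h0, smul_smul]
      split_ifs with e
      · simp [e]
      · rw [inv_mul_cancel₀ (sub_ne_zero.2 e)]
  have h3 := Finset.sum_filter_add_sum_filter_not Finset.univ (fun i => v i = l) fun i => (e i).rank
  rw [h.sum_rank] at h3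
  rw [ed, h2, (h.gd_sum _).2]
  omega

/-- diagonal elements -/
theorem exists_diag (v : ι → Fˣ) (hv : ∀ i, v i ∈ μ) : ∃ g ∈ Γ, (∀ i, (g : Mt n F) * e i = (v i : F) • e i) ∧
    (g : Mt n F).det = ∏ i, (v i : F) ^ (e i).rank := by
  classical
  suffices H : ∀ s : Finset ι, ∃ g ∈ Γ, (∀ i, (g : Mt n F) * e i = (if i ∈ s then v i else 1 : F) • e i) ∧
      (g : Mt n F).det = ∏ i ∈ s, (v i : F) ^ (e i).rank by simpa using H Finset.univ
  intro s
  induction s using Finset.induction_on with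
  | empty => exact ⟨1, one_mem Γ, by simp, by simp⟩
  | insert j s hj ih =>
    obtain ⟨g, hg, e1, e2⟩ := ih
    obtain ⟨x, hx, e3⟩ := (h.gd j).cut _ (hv j)
    refine ⟨x * g, mul_mem hx hg, fun i => ?_, by
      rw [Units.val_mul, det_mul, e2, e3, det_cut (h.gd j).idem, Finset.prod_insert hj]⟩
    rw [Units.val_mul, mul_assoc, e1, Matrix.mul_smul, e3, add_mul, sub_mul, smul_mul_assoc, one_mul]
    by_cases e : i = j
    · simp [e, hj, (h.gd j).idem]
    · simp [e, h.orth j i (Ne.symm e)]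

theorem commute {x y : Mt n F} {v : ι → F} (hx : ∀ i, x * e i = v i • e i) (hy : y ∈ C) : Commute y x := by
  rw [h.ext fun i => (hx i).trans (h.sum_mul v i).symm]
  exact Commute.sum_right _ _ _ fun i _ => ((h.gd i).cc y hy).smul_right _

omit [Fintype ι] h in
theorem pow_mul {x : Mt n F} {v : ι → F} (hx : ∀ i, x * e i = v i • e i) (k : ℕ) (i : ι) :
    x ^ k * e i = v i ^ k • e i := by
  induction k with
  | zero => rw [pow_zero, pow_zero, one_mul, one_smul]
  | succ k ih => rw [pow_succ, mul_assoc, hx, Matrix.mul_smul, ih, smul_smul, pow_succ']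

end Fam

end Cfsg.Agent.TO.LU
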