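import Cfsg.Agent.TO.LU.Eig
import Cfsg.Agent.TO.LU.LC
import Cfsg.Agent.TO.Defs
import Cfsg.Agent.BHZ.Nil.LocBasic
import Cfsg.Agent.BHZ.Nil.Lift

/-!
# S4817, linear and unitary groups: the abstract setting (helper1)
-/

set_option autoImplicit false

namespace Cfsg.Agent.TO.LU

open Matrix
open Cfsg.Agent.BHZ.Nil

variable {F : Type} [Field F] {n p : ℕ} {G X : Type} [Group G] [Group X]

/-- the automorphism permutes the dimensions of the eigenspaces -/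
def Lifts (ι : G →* (Mt n F)ˣ) (Ψ : MulAut G) : Prop :=
  ∃ β : Fˣ ≃ Fˣ, β 1 = 1 ∧ ∀ (g : G) (l : Fˣ), ed (ι (Ψ g)).1 (β l) = ed (ι g).1 l

theorem Lifts.mul {ι : G →* (Mt n F)ˣ} {Ψ Φ : MulAut G} (h : Lifts ι Ψ) (h' : Lifts ι Φ) : Lifts ι (Ψ * Φ) := by
  obtain ⟨β, b1, b2⟩ := h
  obtain ⟨γ, c1, c2⟩ := h'
  exact ⟨γ.trans β, by simp [b1, c1], fun g l => (b2 (Φ g) (γ l)).trans (c2 g l)⟩

/-- `G` is the group of the elements of determinant one of `Γ`, `X` its quotient by the scalars -/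
structure Sys (p : ℕ) (ι : G →* (Mt n F)ˣ) (π : G →* X) (Γ : Subgroup (Mt n F)ˣ) (μ : Subgroup Fˣ) : Prop where
  n0 : n ≠ 0
  hF : (p : F) ≠ 0
  inj : Function.Injective ι
  surj : Function.Surjective π
  mem : ∀ g, ι g ∈ Γ
  ex : ∀ x ∈ Γ, (x : Mt n F).det = 1 → ∃ g, ι g = x
  ker : ∀ g, π g = 1 ↔ ∃ c ∈ μ, ι g = sc n c
  scal : ∀ c ∈ μ, sc n c ∈ Γ
  detm : ∀ x ∈ Γ, ∃ c ∈ μ, (x : Mt n F).det = c
  cut : CutClosed p F Γ
  aut : ∀ α : MulAut X, ∃ Ψ : MulAut G, (∀ g, π (Ψ g) = α (π g)) ∧ Lifts ι Ψ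
  dich : (∀ c ∈ μ, c ^ p = 1 → c = 1) ∨ ∀ (c : Fˣ) (k : ℕ), c ^ p ^ k = 1 → c ∈ μ

/-- with the `p`-subgroup -/
structure Ctx (p : ℕ) (ι : G →* (Mt n F)ˣ) (π : G →* X) (Γ : Subgroup (Mt n F)ˣ) (μ : Subgroup Fˣ)
    (A : Subgroup (MulAut X)) (P : Subgroup G) : Prop extends Sys p ι π Γ μ where
  pg : IsPGroup p P
  pure : Pure p X A (P.map π)

/-- the elements over the nontrivial `p`-elements of `K(Q)` -/
structure Kel (p : ℕ) (π : G →* X) (P : Subgroup G) (x : G) : Prop where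
  kk : π x ∈ KK p (P.map π)
  pe : PElt p (π x)
  ne : π x ≠ 1

/-- the centralizer of `P` as a set of matrices -/
def Cs (ι : G →* (Mt n F)ˣ) (P : Subgroup G) : Set (Mt n F) :=
  {y | ∃ g ∈ Subgroup.centralizer (P : Set G), (ι g : Mt n F) = y}

variable {ι : G →* (Mt n F)ˣ} {π : G →* X} {Γ : Subgroup (Mt n F)ˣ} {μ : Subgroup Fˣ}
  {A : Subgroup (MulAut X)} {P : Subgroup G}

theorem cs_comm {x : G} (hx : x ∈ P) : ∀ y ∈ Cs ι P, Commute y (ι x : Mt n F) := by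
  rintro _ ⟨g, hg, rfl⟩
  exact (Commute.map (show Commute x g from hg x hx) ι).units_val.symm

theorem sc_inj (hn : n ≠ 0) : Function.Injective (sc n : Fˣ →* (Mt n F)ˣ) := fun c d e => by
  have : Nonempty (Fin n) := ⟨⟨0, Nat.pos_of_ne_zero hn⟩⟩
  have h := congrArg Units.val e
  rw [val_sc, val_sc] at h
  exact Units.ext (smul_left_injective F one_ne_zero h)

theorem val_sc_mul (c : Fˣ) (x : (Mt n F)ˣ) : (sc n c * x : (Mt n F)ˣ).1 = (c : F) • x.1 := by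
  rw [Units.val_mul, val_sc, smul_mul_assoc, one_mul]

theorem Fam.eig_iff {C : Set (Mt n F)} {κ : Type} [Fintype κ] {e : κ → Mt n F} (h : Fam C Γ μ e) {x : Mt n F}
    {v : κ → Fˣ} (hx : ∀ i, x * e i = (v i : F) • e i) (l : Fˣ) : ed x l ≠ 0 ↔ ∃ i, v i = l ∧ e i ≠ 0 := by
  classical
  rw [h.ed_eq hx, Ne, Finset.sum_eq_zero_iff]
  push Not
  refine ⟨fun ⟨i, h1, h2⟩ => ⟨i, Units.ext (Finset.mem_filter.1 h1).2, fun e => h2 (by rw [e, rank_zero])⟩,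
    fun ⟨i, h1, h2⟩ => ⟨i, by simp [h1], (rank_pos h2).ne'⟩⟩

theorem Fam.sum_ed [Fintype Fˣ] {C : Set (Mt n F)} {κ : Type} [Fintype κ] {e : κ → Mt n F} (h : Fam C Γ μ e) {x : Mt n F}
    {v : κ → Fˣ} (hv : Function.Injective v) (hx : ∀ i, x * e i = (v i : F) • e i) (g : ℕ → ℕ) (g0 : g 0 = 0) :
    ∑ l : Fˣ, g (ed x l) = ∑ i, g (e i).rank := by
  classical
  refine (Fintype.sum_of_injective v hv _ _ (fun l hl => ?_) fun i => ?_).symm
  · rw [not_not.1 fun e => hl (((h.eig_iff hx l).1 e).imp fun _ h => h.1), g0]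
  · rw [h.ed_eq hx, Finset.sum_eq_single_of_mem i (by simp) fun j hj e =>
      (e (hv (Units.ext (Finset.mem_filter.1 hj).2))).elim]

namespace Sys

variable (S : Sys p ι π Γ μ)
include S

theorem cent : π.ker ≤ Subgroup.center G := fun g hg => Subgroup.mem_center_iff.2 fun y => by
  obtain ⟨c, -, e⟩ := (S.ker g).1 hg
  exact S.inj (by rw [map_mul, map_mul, e, (commute_sc c _).eq])

theorem of_eq {x y : G} (h : π x = π y) : ∃ c ∈ μ, ι x = sc n c * ι y := by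
  obtain ⟨c, hc, e⟩ := (S.ker (x * y⁻¹)).1 (by rw [map_mul, map_inv, h, mul_inv_cancel])
  exact ⟨c, hc, by rw [← e, ← map_mul, inv_mul_cancel_right]⟩

/-- diagonal elements of determinant one -/
theorem exists_x {C : Set (Mt n F)} {κ : Type} [Fintype κ] {e : κ → Mt n F} (h : Fam C Γ μ e) (v : κ → Fˣ)
    (hv : ∀ i, v i ∈ μ) {N : ℕ} (hN : ∀ i, v i ^ N = 1) (hd : ∏ i, v i ^ (e i).rank = 1) :
    ∃ x : G, (∀ i, (ι x : Mt n F) * e i = (v i : F) • e i) ∧ x ^ N = 1 := by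
  obtain ⟨g, hg, h1, h2⟩ := h.exists_diag v hv
  obtain ⟨x, rfl⟩ := S.ex g hg (by rw [h2]; simpa using congrArg Units.val hd)
  refine ⟨x, h1, S.inj (Units.ext (h.ext fun i => ?_))⟩
  rw [map_pow, Units.val_pow_eq_pow_val, Fam.pow_mul h1, ← Units.val_pow_eq_pow_val, hN]
  simp

end Sys

namespace Ctx

variable [hp : Fact p.Prime] [Finite G] (S : Ctx p ι π Γ μ A P)
include S

theorem kel {x : G} (hc : ∀ y ∈ Cs ι P, Commute y (ι x : Mt n F)) {k : ℕ} (hk : x ^ p ^ k = 1) (h1 : π x ≠ 1) :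
    Kel p π P x := by
  refine ⟨map_mem_KK S.surj S.cent S.pg (bicent_le_KK P fun y hy => S.inj ?_), ?_, h1⟩
  · rw [map_mul, map_mul]
    exact Units.ext (hc _ ⟨y, hy, rfl⟩)
  · obtain ⟨j, -, hj⟩ := (Nat.dvd_prime_pow hp.out).1 (orderOf_dvd_of_pow_eq_one (show π x ^ p ^ k = 1 by
      rw [← map_pow, hk, map_one]))
    exact ⟨j, hj⟩

omit hp [Finite G] in
theorem exists_pow {x : G} (hx : x ∈ P) : ∃ k, x ^ p ^ k = 1 := (S.pg ⟨x, hx⟩).imp fun _ h => congrArg Subtype.val h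

theorem kel_of_mem {x : G} (hx : x ∈ P) (h1 : π x ≠ 1) : Kel p π P x :=
  let ⟨_, hk⟩ := S.exists_pow hx
  S.kel (cs_comm hx) hk h1

theorem kel_fam {κ : Type} [Fintype κ] {e : κ → Mt n F} (h : Fam (Cs ι P) Γ μ e) {x : G} {v : κ → Fˣ}
    (hx : ∀ i, (ι x : Mt n F) * e i = (v i : F) • e i) {k : ℕ} (hk : x ^ p ^ k = 1) {i j : κ} (hi : e i ≠ 0)
    (hj : e j ≠ 0) (hij : v i ≠ v j) : Kel p π P x := by
  refine S.kel (fun y hy => h.commute hx hy) hk fun e1 => hij ?_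
  obtain ⟨c, -, hc⟩ := (S.ker x).1 e1
  have h2 : ∀ i, e i ≠ 0 → v i = c := fun i hi => Units.ext (smul_left_injective F hi (by
    beta_reduce; rw [← hx, hc, val_sc, smul_mul_assoc, one_mul]))
  rw [h2 i hi, h2 j hj]

theorem pow_p {x : G} (hx : x ∈ P) : π x ^ p = 1 := by
  by_cases h : π x = 1
  · rw [h, one_pow]
  · exact S.pure.expo _ (S.kel_of_mem hx h).kk (S.kel_of_mem hx h).pe

theorem pow_sc {x : G} (hx : x ∈ P) : ∃ c ∈ μ, ι x ^ p = sc n c := by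
  rw [← map_pow]
  exact (S.ker _).1 (by rw [map_pow, S.pow_p hx])

omit hp [Finite G] in
theorem rel0 {x y : G} (hx : Kel p π P x) (hy : Kel p π P y) : ∃ (Ψ : MulAut G) (β : Fˣ ≃ Fˣ), ∃ c ∈ μ, β 1 = 1 ∧
    ι y = sc n c * ι (Ψ x) ∧ ∀ l : Fˣ, ed (ι y).1 (c * β l : Fˣ) = ed (ι x).1 l := by
  obtain ⟨α, -, e⟩ := S.pure.conj _ hx.kk _ hy.kk hx.pe hy.pe hx.ne hy.ne
  obtain ⟨Ψ, h1, β, h2, h3⟩ := S.aut α
  obtain ⟨c, hc, h4⟩ := S.of_eq ((h1 x).trans e).symm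
  exact ⟨Ψ, β, c, hc, h2, h4, fun l => by rw [h4, val_sc_mul, Units.val_mul, ed_smul c.ne_zero, h3]⟩

omit hp [Finite G] in
theorem rel {x y : G} (hx : Kel p π P x) (hy : Kel p π P y) :
    ∃ γ : Fˣ ≃ Fˣ, ∀ l : Fˣ, ed (ι y).1 (γ l) = ed (ι x).1 l :=
  let ⟨_, β, c, _, _, _, h⟩ := S.rel0 hx hy
  ⟨β.trans (Equiv.mulLeft c), h⟩

omit hp [Finite G] in
/-- three eigenvalues against two -/
theorem no23 {x y : G} (hx : Kel p π P x) (hy : Kel p π P y) {k l m u v : Fˣ} (h1 : k ≠ l) (h2 : k ≠ m) (h3 : l ≠ m)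
    (hk : ed (ι x).1 k ≠ 0) (hl : ed (ι x).1 l ≠ 0) (hm : ed (ι x).1 m ≠ 0)
    (h : ∀ w : Fˣ, ed (ι y).1 w ≠ 0 → w = u ∨ w = v) : False := by
  obtain ⟨γ, hγ⟩ := S.rel hx hy
  have e1 := h _ (hγ k ▸ hk)
  have e2 := h _ (hγ l ▸ hl)
  have e3 := h _ (hγ m ▸ hm)
  rw [← γ.injective.ne_iff] at h1 h2 h3
  grind

theorem no4' [Finite F] {ω : Fˣ} (hω : ω ^ p = 1) (h1 : ω ≠ 1) (hm : ω ∈ μ) {e : Fin 4 → Mt n F}
    (h : Fam (Cs ι P) Γ μ e) (he : ∀ j, e j ≠ 0) : False := by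
  classical
  have := Fintype.ofFinite Fˣ
  refine lc4 S.pure.odd (r := fun v => (e v).rank) (fun v => rank_pos (he v))
    (fun k l m => ∃ x, Kel p π P x ∧ ∀ g : ℕ → ℕ, g 0 = 0 → ∑ w : Fˣ, g (ed (ι x).1 w) = g k + g l + g m) ?_ ?_
  · rintro k l m k' l' m' ⟨x, hx, e1⟩ ⟨y, hy, e2⟩ g g0
    obtain ⟨γ, hγ⟩ := S.rel hx hy
    rw [← e1 g g0, ← e2 g g0, ← γ.sum_comp fun w => g (ed (ι y).1 w)]
    simp only [hγ]
  · rintro c h2 h3 ⟨u, v, w, huv, huw, hvw, hs⟩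
    have h4 := h.merge c
    have hr : ∀ j, mr (fun v => (e v).rank) c j = (∑ i with c i = j, e i).rank := fun j => (h.gd_sum _).2.symm
    simp only [hr] at h2 h3 hs ⊢
    have hi : Function.Injective ![u, v, w] := by
      intro i j
      fin_cases i <;> fin_cases j <;> simp [huv, huw, hvw, huv.symm, huw.symm, hvw.symm]
    obtain ⟨x, h5, h6⟩ := S.exists_x h4 (fun j => zt ω (![u, v, w] j)) (fun j => pow_mem hm _) (N := p ^ 1)
      (fun j => by rw [pow_one, zt_pow_p hω]) (by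
        simp only [Fin.prod_univ_three, ← zt_mul_natCast hω, ← zt_add hω]
        exact (congrArg _ hs).trans (zt_zero ω))
    refine ⟨x, S.kel_fam h4 h5 h6 (i := 0) (j := 1) (fun e => h2.ne' (by rw [e, rank_zero]))
      (fun e => h3.ne' (by rw [e, rank_zero])) fun e => huv (zt_inj hω h1 e), fun g g0 => ?_⟩
    rw [h4.sum_ed ((zt_inj hω h1).comp hi) h5 g g0, Fin.sum_univ_three]

/-- four blocks -/
theorem no4 [Finite F] {ω : Fˣ} (hω : ω ^ p = 1) (h1 : ω ≠ 1) (hm : ω ∈ μ) {κ : Type} [Fintype κ] {e : κ → Mt n F}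
    (h : Fam (Cs ι P) Γ μ e) {s : Fin 4 → κ} (hs : Function.Injective s) (he : ∀ j, e (s j) ≠ 0) : False := by
  refine S.no4' hω h1 hm (h.merge (Function.invFun s)) fun v e1 => ?_
  have h2 := (h.gd_sum _).2.symm.trans ((congrArg _ e1).trans rank_zero)
  exact he v (eq_zero_of_rank (Finset.sum_eq_zero_iff.1 h2 _ (by simp [Function.leftInverse_invFun hs v])))

end Ctx

end Cfsg.Agent.TO.LU
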